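import Cfsg.Agent.Aschbacher.SU3.Model
import Cfsg.Agent.Aschbacher.UnitaryPrime

/-!
Interpretation of the arithmetic model in a field with `p²` elements, and the criterion of non-maximality in
SU(3, p) by an invariant set of vectors.
-/

set_option autoImplicit false
set_option linter.unusedSectionVars false
set_option linter.style.haveILetI false

namespace Cfsg.Agent.Aschbacher.SU3

open scoped MatrixGroups Matrix
open Module

variable {p : ℕ} {F : Type*} [Field F] [Fintype F]

/-- The standing assumptions. -/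
structure Setup (p : ℕ) (F : Type*) [Field F] [Fintype F] (σ : F →+* F) (r : F) : Prop where
  prime : p.Prime
  two_ne : (2 : F) ≠ 0
  char : (p : F) = 0
  conj : IsConj p σ
  sq : r * r = 2
  conj_r : σ r = -r

theorem exists_setup (hp : p = 3 ∨ p = 5) (hF : Fintype.card F = p ^ 2) :
    ∃ (σ : F →+* F) (r : F), Setup p F σ r := by
  obtain ⟨σ', -, hσ⟩ := exists_isConj hF
  have hpp : p.Prime := by rcases hp with rfl | rfl <;> norm_num
  have hc : (p : F) = 0 := by
    have h := Nat.cast_card_eq_zero F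
    rw [hF, Nat.cast_pow] at h
    exact pow_eq_zero_iff two_ne_zero |>.mp h
  have hodd : Odd (Fintype.card F) := by rw [hF]; rcases hp with rfl | rfl <;> decide
  have h2 : (2 : F) ≠ 0 := two_ne_zero_of_odd hodd
  obtain ⟨r, hr⟩ : IsSquare (2 : F) := by
    rw [FiniteField.isSquare_iff (fun h => Nat.not_even_iff_odd.mpr hodd
      (Nat.even_iff.mpr (FiniteField.even_card_iff_char_two.mp h))) h2, hF]
    rcases hp with rfl | rfl
    · have h3 : (3 : F) = 0 := by exact_mod_cast hc
      norm_num
      linear_combination (5 : F) * h3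
    · have h5 : (5 : F) = 0 := by exact_mod_cast hc
      norm_num
      linear_combination (819 : F) * h5
  refine ⟨_, r, hpp, h2, hc, hσ, hr.symm, ?_⟩
  rw [hσ.apply]
  rcases hp with rfl | rfl
  · have h3 : (3 : F) = 0 := by exact_mod_cast hc
    linear_combination (-r) * hr + r * h3
  · have h5 : (5 : F) = 0 := by exact_mod_cast hc
    linear_combination (-r) * (r * r + 2) * hr + r * h5

/-- The value of a number. -/
def val (p : ℕ) (r : F) (n : ℕ) : F := (n : F) + ((n / p : ℕ) : F) * r

/-- The value of a vector. -/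
def vecVal (p : ℕ) (r : F) (v : V) : Fin 3 → F := ![val p r v.1, val p r v.2.1, val p r v.2.2]

/-- The value of a matrix. -/
def matVal (p : ℕ) (r : F) (A : M) : Matrix (Fin 3) (Fin 3) F :=
  Matrix.of fun i j => (![vecVal p r A.1, vecVal p r A.2.1, vecVal p r A.2.2] : Fin 3 → Fin 3 → F) j i

variable {σ : F →+* F} {r : F}

namespace Setup

variable (h : Setup p F σ r)

include h

theorem cast_mod (n : ℕ) : ((n % p : ℕ) : F) = (n : F) := by
  conv_rhs => rw [← Nat.mod_add_div n p]
  push_cast
  rw [h.char, zero_mul, add_zero]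

theorem val_mk (x y : ℕ) : val p r (x % p + p * (y % p)) = (x : F) + (y : F) * r := by
  have hp := h.prime.pos
  have hd : (x % p + p * (y % p)) / p = y % p := by
    rw [Nat.add_mul_div_left _ _ hp, Nat.div_eq_of_lt (Nat.mod_lt _ hp), zero_add]
  simp only [val, hd, Nat.cast_add, Nat.cast_mul, h.cast_mod, h.char, zero_mul, add_zero]

theorem val_red (a : ℕ) : val p r (red p a) = val p r a := by
  rw [red, force_eq]
  exact h.val_mk _ _

theorem val_add (a b : ℕ) : val p r (add p a b) = val p r a + val p r b := by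
  rw [add, force_eq, force_eq, h.val_mk]
  simp only [val, Nat.cast_add, h.cast_mod]
  ring

theorem val_mul (a b : ℕ) : val p r (mul p a b) = val p r a * val p r b := by
  rw [mul, force_eq, force_eq, h.val_mk]
  simp only [val, Nat.cast_add, Nat.cast_mul, h.cast_mod, Nat.cast_ofNat]
  linear_combination -(((a / p : ℕ) : F) * ((b / p : ℕ) : F)) * h.sq

theorem cast_sub_mod (a : ℕ) : ((p - a % p : ℕ) : F) = -(a : F) := by
  rw [Nat.cast_sub (Nat.mod_lt _ h.prime.pos).le, h.char, h.cast_mod, zero_sub]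

theorem val_neg (a : ℕ) : val p r (neg p a) = - val p r a := by
  rw [neg, force_eq, h.val_mk, h.cast_sub_mod, h.cast_sub_mod]
  simp only [val]
  ring

theorem val_cj (a : ℕ) : val p r (cj p a) = σ (val p r a) := by
  rw [cj, force_eq, h.val_mk, h.cast_sub_mod]
  simp only [val, map_add, map_mul, map_natCast, h.conj_r]
  ring

theorem val_one : val p r 1 = 1 := by simp [val, Nat.div_eq_of_lt h.prime.one_lt]

omit h in
theorem val_zero : val p r 0 = 0 := by simp [val]

theorem red_lt (a : ℕ) : red p a < p * p := by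
  have h1 := Nat.mod_lt a h.prime.pos
  have h2 := Nat.mod_lt (a / p) h.prime.pos
  have h3 : p * (a / p % p + 1) ≤ p * p := Nat.mul_le_mul_left _ h2
  rw [Nat.mul_add, mul_one] at h3
  simp only [red, force_eq]
  omega

theorem cast_inj {a b : ℕ} (hab : (a : F) = (b : F)) : a % p = b % p := by
  haveI := Fact.mk h.prime
  haveI : CharP F p := charP_of_card_eq_prime_pow (f := 2) h.conj.card
  exact (CharP.natCast_eq_natCast F p).mp hab

theorem eqs_iff {a b : ℕ} : eqs p a b = true ↔ val p r a = val p r b := by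
  simp only [eqs, beq_iff_eq]
  refine ⟨fun e => by rw [← h.val_red a, e, h.val_red], fun e => ?_⟩
  have h1 := congrArg σ e
  simp only [val, map_add, map_mul, map_natCast, h.conj_r] at h1 e
  have hy : ((a / p : ℕ) : F) = ((b / p : ℕ) : F) := by
    have h3 : (2 : F) * r * (((a / p : ℕ) : F) - ((b / p : ℕ) : F)) = 0 := by linear_combination e - h1
    have hr : r ≠ 0 := fun h0 => h.two_ne (by rw [← h.sq, h0, mul_zero])
    exact sub_eq_zero.mp ((mul_eq_zero.mp h3).resolve_left (mul_ne_zero h.two_ne hr))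
  rw [hy] at e
  simp only [red, force_eq, h.cast_inj (add_right_cancel e), h.cast_inj hy]

theorem veq_iff {u v : V} : veq p u v = true ↔ vecVal p r u = vecVal p r v := by
  simp only [veq, Bool.and_eq_true, h.eqs_iff]
  refine ⟨fun e => by simp [vecVal, e.1.1, e.1.2, e.2], fun e => ⟨⟨congrFun e 0, congrFun e 1⟩, congrFun e 2⟩⟩

theorem vecVal_vadd (u v : V) : vecVal p r (vadd p u v) = vecVal p r u + vecVal p r v := by
  funext i; fin_cases i <;> simp [vecVal, vadd, h.val_add]

theorem vecVal_vsmul (c : ℕ) (v : V) : vecVal p r (vsmul p c v) = val p r c • vecVal p r v := by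
  funext i; fin_cases i <;> simp [vecVal, vsmul, h.val_mul]

theorem vecVal_mulV (A : M) (v : V) : vecVal p r (mulV p A v) = matVal p r A *ᵥ vecVal p r v := by
  funext i
  simp only [mulV, h.vecVal_vadd, h.vecVal_vsmul]
  fin_cases i <;> simp [vecVal, matVal, Matrix.mulVec, dotProduct, Fin.sum_univ_three, mul_comm]

omit h in
theorem matVal_col (A : M) (j : Fin 3) :
    matVal p r A *ᵥ Pi.single j 1 = ![vecVal p r A.1, vecVal p r A.2.1, vecVal p r A.2.2] j := by
  rw [Matrix.mulVec_single_one]; rfl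

theorem matVal_mmul (A B : M) : matVal p r (mmul p A B) = matVal p r A * matVal p r B := by
  ext i j
  have e : (matVal p r A * matVal p r B) i j = (matVal p r A *ᵥ (matVal p r B *ᵥ Pi.single j 1)) i := by
    rw [Matrix.mulVec_mulVec, Matrix.mulVec_single_one]; rfl
  rw [e, matVal_col]
  fin_cases j <;> simp [matVal, mmul, h.vecVal_mulV]

theorem matVal_one : matVal p r one = 1 := by
  ext i j
  fin_cases i <;> fin_cases j <;> simp [matVal, vecVal, one, h.val_one, val_zero]

theorem matVal_msmul (c : ℕ) (A : M) : matVal p r (msmul p c A) = val p r c • matVal p r A := by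
  ext i j
  fin_cases j <;> simp [matVal, msmul, h.vecVal_vsmul]

theorem meq_iff {A B : M} : meq p A B = true ↔ matVal p r A = matVal p r B := by
  simp only [meq, Bool.and_eq_true, h.veq_iff]
  refine ⟨fun e => ?_, fun e => ?_⟩
  · ext i j
    fin_cases j <;> simp [matVal, e.1.1, e.1.2, e.2]
  · refine ⟨⟨?_, ?_⟩, ?_⟩ <;> funext i
    · exact congrFun (congrFun e i) 0
    · exact congrFun (congrFun e i) 1
    · exact congrFun (congrFun e i) 2

theorem val_herm (u v : V) : val p r (herm p u v) = hermForm 3 F p (vecVal p r u) (vecVal p r v) := by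
  simp [herm, h.val_add, h.val_mul, h.val_cj, h.conj.hermForm_apply, Fin.sum_univ_three, vecVal]

theorem val_det (A : M) : val p r (det p A) = (matVal p r A).det := by
  simp [det, h.val_add, h.val_mul, h.val_neg, Matrix.det_fin_three, matVal, vecVal]
  ring

theorem isSU_iff (g : GL (Fin 3) F) (A : M) (hg : (g : Matrix (Fin 3) (Fin 3) F) = matVal p r A) :
    isSU p A = true ↔ g ∈ GU 3 F p ⊓ Geo.specialLinear (Fin 3) F := by
  have hh := h.conj.herm (n := 3)
  simp only [isSU, Bool.and_eq_true, h.eqs_iff, h.val_herm, h.val_det, h.val_one, val_zero, ← hg]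
  constructor
  · rintro ⟨⟨⟨⟨⟨⟨h00, h01⟩, h02⟩, h11⟩, h12⟩, h22⟩, hd⟩
    refine ⟨mem_GU_iff.mpr fun u v => ?_, Units.ext hd⟩
    have e : ∀ w : Fin 3 → F, (g : Matrix (Fin 3) (Fin 3) F) *ᵥ w =
        w 0 • vecVal p r A.1 + w 1 • vecVal p r A.2.1 + w 2 • vecVal p r A.2.2 := fun w => by
      rw [hg]
      funext i
      simp [matVal, Matrix.mulVec, dotProduct, Fin.sum_univ_three, mul_comm]
    have h10 := hh.herm (vecVal p r A.2.1) (vecVal p r A.1)
    have h20 := hh.herm (vecVal p r A.2.2) (vecVal p r A.1)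
    have h21 := hh.herm (vecVal p r A.2.2) (vecVal p r A.2.1)
    rw [h01, map_zero] at h10
    rw [h02, map_zero] at h20
    rw [h12, map_zero] at h21
    simp [e, hh.add_left, hh.add_right, hh.smul_left, hh.smul_right, h00, h01, h02, h10, h11, h12, h20, h21, h22,
      h.conj.hermForm_apply u v, Fin.sum_univ_three]
  · rintro ⟨hu, hd⟩
    have e : ∀ i j : Fin 3, hermForm 3 F p (![vecVal p r A.1, vecVal p r A.2.1, vecVal p r A.2.2] i)
        (![vecVal p r A.1, vecVal p r A.2.1, vecVal p r A.2.2] j) = if i = j then 1 else 0 := fun i j => by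
      have := mem_GU_iff.mp hu (Pi.single i 1) (Pi.single j 1)
      rw [hg, matVal_col, matVal_col] at this
      rw [this, h.conj.hermForm_apply]
      simp [Pi.single_apply, eq_comm]
    exact ⟨⟨⟨⟨⟨⟨by simpa using e 0 0, by simpa using e 0 1⟩, by simpa using e 0 2⟩, by simpa using e 1 1⟩,
      by simpa using e 1 2⟩, by simpa using e 2 2⟩, det_eq_one_of_mem hd⟩

theorem exists_mem {A : M} (hA : isSU p A = true) :
    ∃ g ∈ GU 3 F p ⊓ Geo.specialLinear (Fin 3) F, (g : Matrix (Fin 3) (Fin 3) F) = matVal p r A := by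
  have hd : (matVal p r A).det = 1 := by
    have := hA
    simp only [isSU, Bool.and_eq_true, h.eqs_iff, h.val_det, h.val_one] at this
    exact this.2
  exact ⟨Matrix.GeneralLinearGroup.mkOfDetNeZero (matVal p r A) (by rw [hd]; exact one_ne_zero),
    (h.isSU_iff _ A rfl).mp hA, rfl⟩

theorem exists_val (a : F) : ∃ n, n < p * p ∧ val p r n = a := by
  have hinj : Function.Injective (fun n : Fin (p * p) => val p r (n : ℕ)) := fun a b e => by
    have h1 := h.eqs_iff.mpr e
    simp only [eqs, beq_iff_eq] at h1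
    have hr : ∀ n, n < p * p → red p n = n := fun n hn => by
      rw [red, force_eq, Nat.mod_eq_of_lt (a := n / p) ((Nat.div_lt_iff_lt_mul h.prime.pos).mpr hn), Nat.mod_add_div]
    exact Fin.ext (by rwa [hr _ a.2, hr _ b.2] at h1)
  have hsurj := ((Fintype.bijective_iff_injective_and_card _).mpr
    ⟨hinj, by rw [Fintype.card_fin, h.conj.card, pow_two]⟩).2
  obtain ⟨n, hn⟩ := hsurj a
  exact ⟨n, n.2, hn⟩

theorem exists_vec (v : Fin 3 → F) :
    ∃ x y z, x < p * p ∧ y < p * p ∧ z < p * p ∧ v = vecVal p r (x, y, z) := by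
  obtain ⟨x, hx, e0⟩ := h.exists_val (v 0)
  obtain ⟨y, hy, e1⟩ := h.exists_val (v 1)
  obtain ⟨z, hz, e2⟩ := h.exists_val (v 2)
  exact ⟨x, y, z, hx, hy, hz, funext fun i => by fin_cases i <;> simp [vecVal, e0, e1, e2]⟩

theorem allUnit_spec {f : V → Bool} (hf : allUnit p f = true) {v : Fin 3 → F}
    (hv : hermForm 3 F p v v = 1) : ∃ u, f u = true ∧ v = vecVal p r u := by
  obtain ⟨x, y, z, hx, hy, hz, rfl⟩ := h.exists_vec v
  simp only [allUnit, List.all_eq_true, List.mem_range, Bool.or_eq_true, Bool.not_eq_true'] at hf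
  refine ⟨(x, y, z), (hf x hx y hy z hz).resolve_left ?_, rfl⟩
  rw [Bool.not_eq_false]
  exact h.eqs_iff.mpr (by rw [h.val_herm, hv, h.val_one])

theorem mem_mus {c : ℕ} : c ∈ mus p ↔ c < p * p ∧ val p r c * σ (val p r c) = 1 := by
  rw [mus, List.mem_filter, List.mem_range, h.eqs_iff, h.val_mul, h.val_cj, h.val_one]

theorem exists_mu {a : F} (ha : a * σ a = 1) : ∃ c ∈ mus p, val p r c = a := by
  obtain ⟨c, hc, rfl⟩ := h.exists_val a
  exact ⟨c, h.mem_mus.mpr ⟨hc, ha⟩, rfl⟩

theorem code_inj {u v : V} (e : code p u = code p v) : veq p u v = true := by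
  simp only [code] at e
  have := h.red_lt u.1; have := h.red_lt u.2.1; have := h.red_lt v.1; have := h.red_lt v.2.1
  set N := p * p
  have h1 : red p u.1 = red p v.1 := by
    have e' := congrArg (· % N) e
    simp only [Nat.add_mul_mod_self_left] at e'
    rwa [Nat.mod_eq_of_lt ‹red p u.1 < N›, Nat.mod_eq_of_lt ‹red p v.1 < N›] at e'
  have h2 := Nat.eq_of_mul_eq_mul_left (show 0 < N by omega) (by omega : N * (red p u.2.1 + N * red p u.2.2) =
    N * (red p v.2.1 + N * red p v.2.2))
  have h3 : red p u.2.1 = red p v.2.1 := by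
    have e' := congrArg (· % N) h2
    simp only [Nat.add_mul_mod_self_left] at e'
    rwa [Nat.mod_eq_of_lt ‹red p u.2.1 < N›, Nat.mod_eq_of_lt ‹red p v.2.1 < N›] at e'
  have h4 := Nat.eq_of_mul_eq_mul_left (show 0 < N by omega) (by omega : N * red p u.2.2 = N * red p v.2.2)
  simp [veq, eqs, h1, h3, h4]

end Setup

/-- Set bits of a mask. -/
theorem testBit_foldl (l : List ℕ) (m k : ℕ) :
    (l.foldl (fun m i => m ||| (1 <<< i)) m).testBit k = true ↔ m.testBit k = true ∨ k ∈ l := by
  induction l generalizing m with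
  | nil => simp
  | cons a l ih =>
    rw [List.foldl_cons, ih, Nat.testBit_or, Bool.or_eq_true, Nat.one_shiftLeft, Nat.testBit_two_pow, List.mem_cons,
      decide_eq_true_iff]
    tauto

theorem mask_spec (reps : List V) (v : V) :
    (mask p reps).testBit (code p v) = true ↔ ∃ c ∈ mus p, ∃ s ∈ reps, code p (vsmul p c s) = code p v := by
  simp [mask, testBit_foldl, List.mem_flatMap, List.mem_map]

/-- A subgroup whose elements are among checked candidates lies properly in the stabiliser of the set. -/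
theorem not_maximal (h : Setup p F σ r) {reps : List V} {m : ℕ} {a b : M} (hm : mask p reps = m)
    (ha : isSU p a = true) (hb : isSU p b = true) (has : stable p reps m a = true) (hbs : stable p reps m b = false)
    {H : Subgroup (GL (Fin 3) F)} (hH : Geo.IsMaximalIn (GU 3 F p ⊓ Geo.specialLinear (Fin 3) F) H)
    (hsub : ∀ g ∈ H, ∃ A, (g : Matrix (Fin 3) (Fin 3) F) = matVal p r A ∧ ok p reps m a A = true) : False := by
  classical
  subst hm
  set I := GU 3 F p ⊓ Geo.specialLinear (Fin 3) F
  let S : Set (Fin 3 → F) := {v | ∃ c ∈ mus p, ∃ s ∈ reps, v = vecVal p r (vsmul p c s)}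
  have hbit : ∀ v : V, (mask p reps).testBit (code p v) = true ↔ vecVal p r v ∈ S := fun v => by
    rw [mask_spec]
    constructor
    · rintro ⟨c, hc, s, hs, e⟩
      exact ⟨c, hc, s, hs, (h.veq_iff.mp (h.code_inj e)).symm⟩
    · rintro ⟨c, hc, s, hs, e⟩
      refine ⟨c, hc, s, hs, ?_⟩
      have := h.veq_iff.mpr e
      simp only [veq, eqs, Bool.and_eq_true, beq_iff_eq] at this
      simp only [code, this.1.1, this.1.2, this.2]
  have hstab : ∀ g : GL (Fin 3) F, ∀ A, (g : Matrix (Fin 3) (Fin 3) F) = matVal p r A →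
      stable p reps (mask p reps) A = true → Set.MapsTo ((g : Matrix (Fin 3) (Fin 3) F) *ᵥ ·) S S := by
    rintro g A hg hA v ⟨c, hc, s, hs, rfl⟩
    obtain ⟨c', hc', s', hs', e⟩ := (hbit _).mp (List.all_eq_true.mp hA s hs)
    have hcc : (mul p c c') ∈ mus p := by
      refine h.mem_mus.mpr ⟨?_, ?_⟩
      · have := h.red_lt (mul p c c')
        have hp := h.prime.pos
        have e : mul p c c' < p * p := by
          simp only [mul, force_eq]
          have h1 := Nat.mod_lt (c % p * (c' % p) + 2 * (c / p * (c' / p))) hp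
          have h3 := Nat.mul_le_mul_left p (Nat.mod_lt (c % p * (c' / p) + c / p * (c' % p)) hp)
          rw [Nat.mul_succ] at h3
          omega
        exact e
      · have h1 := (h.mem_mus.mp hc).2
        have h2 := (h.mem_mus.mp hc').2
        rw [h.val_mul, map_mul]
        linear_combination (val p r c' * σ (val p r c')) * h1 + h2
    refine ⟨_, hcc, s', hs', ?_⟩
    rw [h.vecVal_mulV, ← hg] at e
    show (g : Matrix (Fin 3) (Fin 3) F) *ᵥ _ = _
    rw [h.vecVal_vsmul, Matrix.mulVec_smul, e, h.vecVal_vsmul, h.vecVal_vsmul, smul_smul, h.val_mul]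
  let M' : Subgroup (GL (Fin 3) F) :=
    { carrier := {g | g ∈ I ∧ ∀ v, v ∈ S ↔ (g : Matrix (Fin 3) (Fin 3) F) *ᵥ v ∈ S}
      mul_mem' := fun {x y} hx hy => ⟨mul_mem hx.1 hy.1, fun v => by
        rw [Units.val_mul, ← Matrix.mulVec_mulVec, ← hx.2, ← hy.2]⟩
      one_mem' := ⟨one_mem _, fun v => by simp⟩
      inv_mem' := fun {x} hx => ⟨inv_mem hx.1, fun v => by
        rw [hx.2 (((x⁻¹ : GL (Fin 3) F) : Matrix (Fin 3) (Fin 3) F) *ᵥ v), mulVec_inv_mulVec]⟩ }
  have hmem : ∀ g ∈ I, Set.MapsTo ((g : Matrix (Fin 3) (Fin 3) F) *ᵥ ·) S S → g ∈ M' := by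
    refine fun g hg hS => ⟨hg, fun v => ⟨fun hv => hS hv, fun hv => ?_⟩⟩
    obtain ⟨w, hw⟩ := Finite.injective_iff_surjective.mp
      (show Function.Injective hS.restrict from fun x y e =>
        Subtype.ext (mulVec_gl_inj g (congrArg Subtype.val e))) ⟨_, hv⟩
    have : (w : Fin 3 → F) = v := mulVec_gl_inj g (congrArg Subtype.val hw)
    exact this ▸ w.2
  obtain ⟨ga, hga, hgav⟩ := h.exists_mem ha
  have haM : ga ∈ M' := hmem ga hga (hstab ga a hgav has)
  have hle : H ≤ M' := fun g hg => by
    obtain ⟨A, hA, hok⟩ := hsub g hg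
    have hSU := (h.isSU_iff g A hA).mpr (hH.1.le hg)
    simp only [ok, forceM_eq, hSU, Bool.not_true, Bool.false_or, Bool.and_eq_true] at hok
    exact hmem g (hH.1.le hg) (hstab g A hA hok.1)
  rcases hH.2 M' hle fun g hg => hg.1 with e | e
  · obtain ⟨A, hA, hok⟩ := hsub ga (e ▸ haM)
    have hSU := (h.isSU_iff ga A hA).mpr hga
    have heq : meq p A a = true := h.meq_iff.mpr (hA.symm.trans hgav)
    simp [ok, forceM_eq, hSU, heq] at hok
  · obtain ⟨gb, hgb, hgbv⟩ := h.exists_mem hb
    simp only [stable, List.all_eq_false, Bool.not_eq_true] at hbs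
    obtain ⟨s, hs, hns⟩ := hbs
    obtain ⟨c, hc, hc1⟩ := h.exists_mu (a := (1 : F)) (by simp)
    have h1 : vecVal p r (vsmul p c s) ∈ S := ⟨c, hc, s, hs, rfl⟩
    rw [h.vecVal_vsmul, hc1, one_smul] at h1
    have h2 := ((e ▸ hgb : gb ∈ M').2 _).mp h1
    rw [hgbv, ← h.vecVal_mulV, ← hbit, hns] at h2
    exact Bool.false_ne_true h2

end Cfsg.Agent.Aschbacher.SU3
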