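import Mathlib

/-!
Arithmetic of three by three matrices over the field with `p²` elements (`p` three or five), on natural numbers:
the number `x + p * y` stands for `x + y * r` with `r * r = 2`.
-/

set_option autoImplicit false

namespace Cfsg.Agent.Aschbacher.SU3

variable (p : ℕ)

/-- Evaluation of a number before use: the kernel does not share unevaluated arguments. -/
def force {α : Type} (a : ℕ) (f : ℕ → α) : α := Nat.rec (motive := fun _ => α) (f 0) (fun n _ => f (n + 1)) a

theorem force_eq {α : Type} (a : ℕ) (f : ℕ → α) : force a f = f a := by cases a <;> rfl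

/-- The canonical representative. -/
def red (a : ℕ) : ℕ := force a fun a => a % p + p * (a / p % p)

/-- Addition. -/
def add (a b : ℕ) : ℕ := force a fun a => force b fun b => (a % p + b % p) % p + p * ((a / p + b / p) % p)

/-- Multiplication. -/
def mul (a b : ℕ) : ℕ := force a fun a => force b fun b =>
  (a % p * (b % p) + 2 * (a / p * (b / p))) % p + p * ((a % p * (b / p) + a / p * (b % p)) % p)

/-- The opposite. -/
def neg (a : ℕ) : ℕ := force a fun a => (p - a % p) % p + p * ((p - a / p % p) % p)

/-- Conjugation. -/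
def cj (a : ℕ) : ℕ := force a fun a => a % p + p * ((p - a / p % p) % p)

/-- Vectors. -/
abbrev V := ℕ × ℕ × ℕ

/-- Matrices, by columns. -/
abbrev M := V × V × V

/-- Evaluation of a vector before use. -/
def forceV {α : Type} (v : V) (f : V → α) : α :=
  force v.1 fun x => force v.2.1 fun y => force v.2.2 fun z => f (x, y, z)

theorem forceV_eq {α : Type} (v : V) (f : V → α) : forceV v f = f v := by simp [forceV, force_eq]

/-- Evaluation of a matrix before use. -/
def forceM {α : Type} (A : M) (f : M → α) : α :=
  forceV A.1 fun a => forceV A.2.1 fun b => forceV A.2.2 fun c => f (a, b, c)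

theorem forceM_eq {α : Type} (A : M) (f : M → α) : forceM A f = f A := by simp [forceM, forceV_eq]

/-- Sum of vectors. -/
def vadd (u v : V) : V := (add p u.1 v.1, add p u.2.1 v.2.1, add p u.2.2 v.2.2)

/-- Scalar multiple. -/
def vsmul (c : ℕ) (v : V) : V := (mul p c v.1, mul p c v.2.1, mul p c v.2.2)

/-- Scalar multiple of a matrix. -/
def msmul (c : ℕ) (A : M) : M := (vsmul p c A.1, vsmul p c A.2.1, vsmul p c A.2.2)

/-- Matrix times vector. -/
def mulV (A : M) (v : V) : V :=
  vadd p (vadd p (vsmul p v.1 A.1) (vsmul p v.2.1 A.2.1)) (vsmul p v.2.2 A.2.2)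

/-- Product. -/
def mmul (A B : M) : M := (mulV p A B.1, mulV p A B.2.1, mulV p A B.2.2)

/-- The identity. -/
def one : M := ((1, 0, 0), (0, 1, 0), (0, 0, 1))

/-- The Hermitian product. -/
def herm (u v : V) : ℕ :=
  add p (add p (mul p u.1 (cj p v.1)) (mul p u.2.1 (cj p v.2.1))) (mul p u.2.2 (cj p v.2.2))

/-- The determinant. -/
def det (A : M) : ℕ :=
  add p
    (add p (mul p A.1.1 (add p (mul p A.2.1.2.1 A.2.2.2.2) (neg p (mul p A.2.2.2.1 A.2.1.2.2))))
      (neg p (mul p A.2.1.1 (add p (mul p A.1.2.1 A.2.2.2.2) (neg p (mul p A.2.2.2.1 A.1.2.2))))))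
    (mul p A.2.2.1 (add p (mul p A.1.2.1 A.2.1.2.2) (neg p (mul p A.2.1.2.1 A.1.2.2))))

/-- Equality of values. -/
def eqs (a b : ℕ) : Bool := red p a == red p b

/-- Equality of values of vectors. -/
def veq (u v : V) : Bool := eqs p u.1 v.1 && eqs p u.2.1 v.2.1 && eqs p u.2.2 v.2.2

/-- Equality of values of matrices. -/
def meq (A B : M) : Bool := veq p A.1 B.1 && veq p A.2.1 B.2.1 && veq p A.2.2 B.2.2

/-- Unitary of determinant one. -/
def isSU (A : M) : Bool :=
  eqs p (herm p A.1 A.1) 1 && eqs p (herm p A.1 A.2.1) 0 && eqs p (herm p A.1 A.2.2) 0 &&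
    eqs p (herm p A.2.1 A.2.1) 1 && eqs p (herm p A.2.1 A.2.2) 0 && eqs p (herm p A.2.2 A.2.2) 1 &&
    eqs p (det p A) 1

/-- The code of a vector. -/
def code (v : V) : ℕ := red p v.1 + p * p * (red p v.2.1 + p * p * red p v.2.2)

/-- The scalars of norm one. -/
def mus : List ℕ := (List.range (p * p)).filter fun c => eqs p (mul p c (cj p c)) 1

/-- The set of multiples of the representatives, as a bit mask. -/
def mask (reps : List V) : ℕ :=
  ((mus p).flatMap fun c => reps.map fun s => code p (vsmul p c s)).foldl (fun m i => m ||| (1 <<< i)) 0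

/-- The matrix maps the representatives into the set. -/
def stable (reps : List V) (m : ℕ) (A : M) : Bool := reps.all fun s => m.testBit (code p (mulV p A s))

/-- A candidate is either outside the group, or fixes the set and differs from the witness. -/
def ok (reps : List V) (m : ℕ) (a A : M) : Bool := forceM A fun A => !isSU p A || (stable p reps m A && !meq p A a)

/-- All vectors of norm one, checked. -/
def allUnit (f : V → Bool) : Bool :=
  (List.range (p * p)).all fun x => (List.range (p * p)).all fun y => (List.range (p * p)).all fun z =>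
    !eqs p (herm p (x, y, z) (x, y, z)) 1 || f (x, y, z)

end Cfsg.Agent.Aschbacher.SU3
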