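import Cfsg.Agent.Aschbacher.SU3.Interp
import Cfsg.Agent.Aschbacher.SU3.Data
import Cfsg.Agent.Lib.Unitary.Count

/-!
The geometric subgroups of SU(3, 3) and SU(3, 5) that are not maximal.
-/

set_option autoImplicit false
set_option linter.unusedSectionVars false
set_option linter.style.haveILetI false

namespace Cfsg.Agent.Aschbacher.SU3

open scoped MatrixGroups Matrix
open Module

variable {p : ℕ} {F : Type*} [Field F] [Fintype F] {σ : F →+* F} {r : F}

/-- The group SU(3, p) inside GL(3). -/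
abbrev SUG (p : ℕ) (F : Type*) [Field F] : Subgroup (GL (Fin 3) F) := GU 3 F p ⊓ Geo.specialLinear (Fin 3) F

theorem conj_mem {u g : GL (Fin 3) F} (hu : u ∈ GU 3 F p) (hg : g ∈ SUG p F) : u * g * u⁻¹ ∈ SUG p F := by
  refine Subgroup.mem_inf.mpr ⟨(GU 3 F p).mul_mem ((GU 3 F p).mul_mem hu hg.1) ((GU 3 F p).inv_mem hu), ?_⟩
  have : g ∈ (Matrix.GeneralLinearGroup.det (n := Fin 3) (R := F)).ker := hg.2
  exact Subgroup.Normal.conj_mem (MonoidHom.normal_ker _) g this u

theorem map_mem {D : Fin 3 → Submodule F (Fin 3 → F)} {g : GL (Fin 3) F} {π : Equiv.Perm (Fin 3)}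
    (hπ : ∀ i, (D i).map (Matrix.toLin' (g : Matrix (Fin 3) (Fin 3) F)) = D (π i)) {i : Fin 3} {v : Fin 3 → F}
    (hv : v ∈ D i) : (g : Matrix (Fin 3) (Fin 3) F) *ᵥ v ∈ D (π i) :=
  hπ i ▸ ⟨v, hv, Matrix.toLin'_apply _ _⟩

/-- Conjugation by unitary maps keeps maximality. -/
theorem conj_maximal {H : Subgroup (GL (Fin 3) F)} {u : GL (Fin 3) F} (hu : u ∈ GU 3 F p)
    (hH : Geo.IsMaximalIn (SUG p F) H) :
    Geo.IsMaximalIn (SUG p F) (H.map (MulAut.conj u).toMonoidHom) := by
  have hI : (SUG p F).map (MulAut.conj u).toMonoidHom = SUG p F := by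
    refine le_antisymm ?_ fun g hg => ⟨u⁻¹ * g * u, by simpa using conj_mem (inv_mem hu) hg, by simp [mul_assoc]⟩
    rintro _ ⟨g, hg, rfl⟩
    exact conj_mem hu hg
  have hinj : Function.Injective (MulAut.conj u).toMonoidHom := (MulAut.conj u).injective
  refine ⟨lt_of_le_of_ne (hI ▸ Subgroup.map_mono hH.1.le) fun e => hH.1.ne
    (Subgroup.map_injective hinj (e.trans hI.symm)), fun M' hHM hMI => ?_⟩
  have hcm : (M'.comap (MulAut.conj u).toMonoidHom).map (MulAut.conj u).toMonoidHom = M' :=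
    Subgroup.map_comap_eq_self_of_surjective (MulAut.conj u).surjective M'
  rcases hH.2 (M'.comap (MulAut.conj u).toMonoidHom) (Subgroup.map_le_iff_le_comap.mp hHM) (fun g hg => by
      have h1 : (MulAut.conj u).toMonoidHom g ∈ (SUG p F).map (MulAut.conj u).toMonoidHom := hI.symm ▸ hMI hg
      obtain ⟨g', hg', e⟩ := h1
      exact hinj e ▸ hg') with e | e
  · exact Or.inl (by rw [← hcm, e])
  · exact Or.inr (by rw [← hcm, e, hI])

namespace Setup

variable (h : Setup p F σ r)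

include h

theorem exists_unit_norm {a : F} (ha : σ a = a) (ha0 : a ≠ 0) : ∃ s : F, s * σ s = a := by
  obtain ⟨s, hs⟩ := exists_norm_eq h.conj.card (c := a) (by rw [← h.conj.apply, ha])
  exact ⟨s, by rw [h.conj.apply, ← pow_succ', hs]⟩

theorem exists_frameGL (b : Fin 3 → Fin 3 → F)
    (hb : ∀ i j, hermForm 3 F p (b i) (b j) = if i = j then 1 else 0) :
    ∃ B : GL (Fin 3) F, B ∈ GU 3 F p ∧ ∀ j, (B : Matrix (Fin 3) (Fin 3) F) *ᵥ Pi.single j 1 = b j := by
  have hh := h.conj.herm (n := 3)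
  let Bm : Matrix (Fin 3) (Fin 3) F := Matrix.of fun i j => b j i
  have hcol : ∀ j, Bm *ᵥ Pi.single j 1 = b j := fun j => by rw [Matrix.mulVec_single_one]; rfl
  have e : ∀ w : Fin 3 → F, Bm *ᵥ w = w 0 • b 0 + w 1 • b 1 + w 2 • b 2 := fun w => by
    funext i
    simp [Bm, Matrix.mulVec, dotProduct, Fin.sum_univ_three, mul_comm]
  have hpres : ∀ u v, hermForm 3 F p (Bm *ᵥ u) (Bm *ᵥ v) = hermForm 3 F p u v := fun u v => by
    simp [e, hh.add_left, hh.add_right, hh.smul_left, hh.smul_right, hb, h.conj.hermForm_apply u v, Fin.sum_univ_three]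
  have hinj : Function.Injective fun v => Bm *ᵥ v := by
    intro u v huv
    by_contra hne
    obtain ⟨x, hx⟩ := (hh.nondegenerate _ (sub_ne_zero.mpr hne)).1
    refine hx ?_
    rw [← hpres, Matrix.mulVec_sub, sub_eq_zero.mpr huv, hh.zero_right]
  exact ⟨(Matrix.mulVec_injective_iff_isUnit.mp hinj).unit, mem_GU_iff.mpr hpres, hcol⟩

theorem eq_matVal {g : GL (Fin 3) F} (t : Fin 3 → V)
    (ht : ∀ j, (g : Matrix (Fin 3) (Fin 3) F) *ᵥ Pi.single j 1 = vecVal p r (t j)) :
    (g : Matrix (Fin 3) (Fin 3) F) = matVal p r (t 0, t 1, t 2) := by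
  ext i j
  have := congrFun (ht j) i
  rw [Matrix.mulVec_single_one] at this
  fin_cases j <;> simpa [matVal] using this

theorem not_maximal_of_witness {reps : List V} {m : ℕ} {a b : M} (hw : witness p reps m a b = true)
    {H : Subgroup (GL (Fin 3) F)} (hH : Geo.IsMaximalIn (SUG p F) H)
    (hsub : ∀ g ∈ H, ∃ A, (g : Matrix (Fin 3) (Fin 3) F) = matVal p r A ∧ ok p reps m a A = true) : False := by
  simp only [witness, Bool.and_eq_true, beq_iff_eq, Bool.not_eq_true'] at hw
  obtain ⟨⟨hm, ha, hb⟩, has, hbs⟩ : (mask p reps = m ∧ isSU p a = true ∧ isSU p b = true) ∧ stable p reps m a = true ∧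
      stable p reps m b = false := by tauto
  exact not_maximal h hm ha hb has hbs hH hsub

/-- The stabiliser of an orthogonal frame. -/
theorem frame_not_maximal {reps : List V} {m : ℕ} {a b : M} (hw : witness p reps m a b = true)
    (hc : monCheck p reps m a = true) {D : Fin 3 → Submodule F (Fin 3 → F)}
    (hD : Geo.IsNondegenerateMDecomposition (hermForm 3 F p) 1 D) {H : Subgroup (GL (Fin 3) F)}
    (hH : Geo.IsMaximalIn (SUG p F) H) (hle : H ≤ Geo.decompositionStabilizer D) : False := by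
  have hh := h.conj.herm (n := 3)
  have hb1 : ∀ i, ∃ v ∈ D i, hermForm 3 F p v v = 1 := fun i => by
    obtain ⟨v, hv, hv0⟩ := (Submodule.ne_bot_iff (D i)).mp fun e => by
      have := hD.decomp.finrank_eq i
      rw [e, finrank_bot] at this
      omega
    obtain ⟨w, hw', hvw⟩ := (hD.nondegenerate i v hv hv0).2
    obtain ⟨c, hc'⟩ := exists_smul_eq_of_finrank_eq_one (K := F) (hD.decomp.finrank_eq i)
      (x := (⟨v, hv⟩ : D i)) (fun e => hv0 (congrArg Subtype.val e)) ⟨w, hw'⟩
    have hne : hermForm 3 F p v v ≠ 0 := fun h0 => hvw (by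
      rw [show w = c • v from (congrArg Subtype.val hc').symm, hh.smul_right, h0, mul_zero])
    obtain ⟨s, hs⟩ := h.exists_unit_norm (a := (hermForm 3 F p v v)⁻¹) (by rw [map_inv₀, ← hh.herm v v])
      (inv_ne_zero hne)
    refine ⟨s • v, Submodule.smul_mem _ _ hv, ?_⟩
    rw [hh.smul_left, hh.smul_right, ← mul_assoc, hs, inv_mul_cancel₀ hne]
  choose v hvD hv using hb1
  obtain ⟨B, hB, hBc⟩ := h.exists_frameGL v fun i j => by
    split_ifs with e
    · rw [e, hv]
    · exact hD.orthogonal i j e _ (hvD i) _ (hvD j)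
  refine h.not_maximal_of_witness hw (conj_maximal (inv_mem hB) hH) ?_
  rintro _ ⟨g, hg, rfl⟩
  have hmem : B⁻¹ * g * B ∈ SUG p F := by simpa using conj_mem (inv_mem hB) (hH.1.le hg)
  obtain ⟨π, hπ⟩ := hle hg
  have key : ∀ j, ∃ t ∈ (mus p).flatMap (fun c => [(c, 0, 0), (0, c, 0), (0, 0, c)]),
      ((B⁻¹ * g * B : GL (Fin 3) F) : Matrix (Fin 3) (Fin 3) F) *ᵥ Pi.single j 1 = vecVal p r t := by
    intro j
    obtain ⟨c, hc'⟩ := exists_smul_eq_of_finrank_eq_one (K := F) (hD.decomp.finrank_eq (π j))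
      (x := (⟨v (π j), hvD _⟩ : D (π j)))
      (fun e => by
        have := hv (π j)
        rw [show v (π j) = 0 from congrArg Subtype.val e, hh.zero_left] at this
        exact zero_ne_one this)
      ⟨_, map_mem hπ (hvD j)⟩
    have hgv : (g : Matrix (Fin 3) (Fin 3) F) *ᵥ v j = c • v (π j) := (congrArg Subtype.val hc').symm
    have hcc : c * σ c = 1 := by
      have h1 := mem_GU_iff.mp (hH.1.le hg).1 (v j) (v j)
      rwa [hgv, hh.smul_left, hh.smul_right, hv, hv, mul_one] at h1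
    obtain ⟨k, hk, hkc⟩ := h.exists_mu hcc
    have hcolj : ((B⁻¹ * g * B : GL (Fin 3) F) : Matrix (Fin 3) (Fin 3) F) *ᵥ Pi.single j 1 =
        c • Pi.single (π j) 1 := by
      rw [Units.val_mul, Units.val_mul, ← Matrix.mulVec_mulVec, ← Matrix.mulVec_mulVec, hBc, hgv, Matrix.mulVec_smul,
        ← hBc (π j), inv_mulVec_mulVec]
    refine ⟨(![(k, 0, 0), (0, k, 0), (0, 0, k)] : Fin 3 → V) (π j), List.mem_flatMap.mpr ⟨k, hk, ?_⟩, ?_⟩
    · generalize π j = i
      fin_cases i <;> simp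
    · rw [hcolj]
      generalize π j = i
      fin_cases i <;> funext l <;> fin_cases l <;> simp [vecVal, hkc, val_zero, Pi.single_apply]
  choose t htU ht using key
  refine ⟨(t 0, t 1, t 2), ?_, ?_⟩
  · simpa using h.eq_matVal t ht
  · simp only [monCheck, List.all_eq_true] at hc
    exact hc _ (htU 0) _ (htU 1) _ (htU 2)

/-- The normaliser of a cyclic group of order seven. -/
theorem seven_not_maximal {reps : List V} {m : ℕ} {a b : M} {pows : List M} {binv : M}
    (hw : witness p reps m a b = true) (hc : sevenCheck p reps m a pows binv = true)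
    (hcb : cyclicBasis p pows binv = true) (h49 : ¬ 49 ∣ Nat.card (GU 3 F p)) {x : GL (Fin 3) F}
    (hx : orderOf x = 7) (hxU : x ∈ GU 3 F p) {H : Subgroup (GL (Fin 3) F)} (hH : Geo.IsMaximalIn (SUG p F) H)
    (hnorm : ∀ g ∈ H, ∃ j : ℕ, g * x * g⁻¹ = x ^ j) : False := by
  classical
  haveI : Fact (Nat.Prime 7) := ⟨by norm_num⟩
  simp only [cyclicBasis, Bool.and_eq_true, Bool.not_eq_true', List.all_eq_true, List.mem_range] at hcb
  obtain ⟨⟨⟨⟨h0, hstep⟩, hg1⟩, hne⟩, hinv⟩ := hcb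
  obtain ⟨y, hy, hyv⟩ := h.exists_mem hg1
  have h00 : matVal p r (pows.getD 0 one) = 1 := by rw [h.meq_iff.mp h0, h.matVal_one]
  have hlin : ∀ j, j < 7 → matVal p r (pows.getD j one) = (y : Matrix (Fin 3) (Fin 3) F) ^ j := by
    intro j
    induction j with
    | zero => intro; rw [h00, pow_zero]
    | succ j ih =>
      intro hj
      have := h.meq_iff.mp (hstep j (by omega))
      rw [Nat.mod_eq_of_lt hj, h.matVal_mmul, ih (by omega), ← hyv] at this
      rw [this, pow_succ]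
  have hy7 : y ^ 7 = 1 := Units.ext (by
    have := h.meq_iff.mp (hstep 6 (by norm_num))
    rw [h.matVal_mmul, hlin 6 (by norm_num), ← hyv, show (6 + 1) % 7 = 0 from rfl, h00, ← pow_succ] at this
    rw [Units.val_pow_eq_pow_val, Units.val_one]
    exact this.symm)
  have hy1 : y ≠ 1 := fun e => by
    rw [e, Units.val_one, ← h.matVal_one] at hyv
    rw [h.meq_iff.mpr hyv.symm] at hne
    exact Bool.noConfusion hne
  have hyo : orderOf y = 7 := orderOf_eq_prime hy7 hy1
  -- the two groups of order seven are conjugate in GU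
  haveI : Finite (GL (Fin 3) F) := Finite.of_fintype _
  have hfac : (Nat.card (GU 3 F p)).factorization 7 = 1 := by
    have h7 : 7 ∣ Nat.card (GU 3 F p) := by
      rw [← hx, show orderOf x = orderOf (⟨x, hxU⟩ : GU 3 F p) from (Subgroup.orderOf_mk x hxU).symm]
      exact orderOf_dvd_natCard _
    have hpos : Nat.card (GU 3 F p) ≠ 0 := Nat.card_pos.ne'
    refine le_antisymm ?_ ((Nat.Prime.dvd_iff_one_le_factorization (by norm_num) hpos).mp h7)
    by_contra hlt
    exact h49 ((pow_dvd_pow 7 (show 2 ≤ (Nat.card (GU 3 F p)).factorization 7 by omega)).trans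
      (Nat.ordProj_dvd _ _))
  let P₁ : Sylow 7 (GU 3 F p) := Sylow.ofCard (Subgroup.zpowers (⟨x, hxU⟩ : GU 3 F p))
    (by rw [Nat.card_zpowers, Subgroup.orderOf_mk, hx, hfac, pow_one])
  let P₂ : Sylow 7 (GU 3 F p) := Sylow.ofCard (Subgroup.zpowers (⟨y, hy.1⟩ : GU 3 F p))
    (by rw [Nat.card_zpowers, Subgroup.orderOf_mk, hyo, hfac, pow_one])
  obtain ⟨u, hu⟩ := MulAction.exists_smul_eq (GU 3 F p) P₁ P₂
  obtain ⟨k, hk⟩ : ∃ k : ℕ, (u : GL (Fin 3) F) * x * (u : GL (Fin 3) F)⁻¹ = y ^ k := by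
    have hmem : u * ⟨x, hxU⟩ * u⁻¹ ∈ (P₂ : Subgroup (GU 3 F p)) := by
      rw [← hu, Sylow.coe_subgroup_smul]
      exact ⟨_, Subgroup.mem_zpowers (⟨x, hxU⟩ : GU 3 F p), rfl⟩
    obtain ⟨k, hk⟩ := mem_powers_iff_mem_zpowers.mpr (show u * ⟨x, hxU⟩ * u⁻¹ ∈ Subgroup.zpowers _ from hmem)
    exact ⟨k, (congrArg Subtype.val hk).symm⟩
  have hk7 : ¬ 7 ∣ k := by
    rintro ⟨l, rfl⟩
    rw [pow_mul, hy7, one_pow, mul_inv_eq_one, mul_eq_left] at hk
    rw [hk, orderOf_one] at hx
    omega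
  obtain ⟨k', hk'⟩ : ∃ k' : ℕ, k * k' % 7 = 1 := by
    obtain ⟨k', -, hk'⟩ := Nat.exists_mul_mod_eq_one_of_coprime (n := k) (k := 7)
      ((Nat.Prime.coprime_iff_not_dvd (by norm_num)).mpr hk7).symm (by norm_num)
    exact ⟨k', hk'⟩
  refine h.not_maximal_of_witness hw (conj_maximal u.2 hH) ?_
  rintro _ ⟨g, hg, rfl⟩
  set w : GL (Fin 3) F := (MulAut.conj (u : GL (Fin 3) F)).toMonoidHom g with hwdef
  have hwI : w ∈ SUG p F := conj_mem u.2 (hH.1.le hg)
  obtain ⟨j, hj⟩ := hnorm g hg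
  obtain ⟨l, hl⟩ : ∃ l, l < 7 ∧ w * y * w⁻¹ = y ^ l := by
    refine ⟨k * j * k' % 7, Nat.mod_lt _ (by norm_num), ?_⟩
    have h1 : w * (y ^ k) * w⁻¹ = y ^ (k * j) := by
      rw [pow_mul, ← hk, conj_pow, ← hj, hwdef]
      simp only [MulEquiv.coe_toMonoidHom, MulAut.conj_apply]
      group
    have hy' : y = (y ^ k) ^ k' := by
      rw [← pow_mul, pow_eq_pow_mod _ hy7, hk', pow_one]
    conv_lhs => rw [hy', ← conj_pow, h1]
    rw [← pow_mul, pow_eq_pow_mod _ hy7]
  have he0 : (Pi.single 0 1 : Fin 3 → F) = vecVal p r (1, 0, 0) := by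
    funext i; fin_cases i <;> simp [vecVal, h.val_one, val_zero]
  obtain ⟨c, hcok, hcv⟩ := h.allUnit_spec hc (v := (w : Matrix (Fin 3) (Fin 3) F) *ᵥ vecVal p r (1, 0, 0))
    (by rw [mem_GU_iff.mp hwI.1, h.conj.hermForm_apply]; simp [Fin.sum_univ_three, vecVal, h.val_one, val_zero])
  rw [forceV_eq] at hcok
  simp only [List.all_eq_true, List.mem_range] at hcok
  refine ⟨_, ?_, hcok l hl.1⟩
  have hwy : ∀ i : ℕ, (w : Matrix (Fin 3) (Fin 3) F) * (y : Matrix (Fin 3) (Fin 3) F) ^ i =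
      (y : Matrix (Fin 3) (Fin 3) F) ^ (l * i % 7) * (w : Matrix (Fin 3) (Fin 3) F) := fun i => by
    rw [← Units.val_pow_eq_pow_val, ← Units.val_pow_eq_pow_val, ← Units.val_mul, ← Units.val_mul, ← pow_eq_pow_mod _ hy7,
      pow_mul, ← hl.2, conj_pow]
    simp
  have hB := h.meq_iff.mp hinv
  rw [h.matVal_mmul, h.matVal_one] at hB
  have hcols : (w : Matrix (Fin 3) (Fin 3) F) *
      matVal p r ((1, 0, 0), mulV p (pows.getD 1 one) (1, 0, 0), mulV p (pows.getD 2 one) (1, 0, 0)) =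
      matVal p r (c, mulV p (pows.getD l one) c, mulV p (pows.getD (2 * l % 7) one) c) := by
    ext i j
    have e : ∀ A : Matrix (Fin 3) (Fin 3) F, A i j = (A *ᵥ Pi.single j 1) i := fun A => by
      rw [Matrix.mulVec_single_one]; rfl
    rw [e (_ * _), e (matVal p r (c, _)), ← Matrix.mulVec_mulVec, matVal_col, matVal_col]
    refine congrFun ?_ i
    fin_cases j
    · simpa using hcv
    · have h1 : (w : Matrix (Fin 3) (Fin 3) F) *ᵥ vecVal p r (mulV p (pows.getD 1 one) (1, 0, 0)) =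
          vecVal p r (mulV p (pows.getD l one) c) := by
        rw [h.vecVal_mulV, h.vecVal_mulV, Matrix.mulVec_mulVec, hlin 1 (by norm_num), hwy, ← Matrix.mulVec_mulVec, hcv,
          hlin l hl.1, mul_one, Nat.mod_eq_of_lt hl.1]
      simpa using h1
    · have h1 : (w : Matrix (Fin 3) (Fin 3) F) *ᵥ vecVal p r (mulV p (pows.getD 2 one) (1, 0, 0)) =
          vecVal p r (mulV p (pows.getD (2 * l % 7) one) c) := by
        rw [h.vecVal_mulV, h.vecVal_mulV, Matrix.mulVec_mulVec, hlin 2 (by norm_num), hwy, ← Matrix.mulVec_mulVec, hcv,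
          hlin _ (Nat.mod_lt _ (by norm_num)), mul_comm l 2]
      simpa using h1
  rw [h.matVal_mmul, ← hcols, mul_assoc, hB, mul_one]

/-- The normaliser of a cubic field. -/
theorem field_not_maximal (hp35 : p = 3 ∨ p = 5) {reps : List V} {m : ℕ} {a b : M} {pows : List M} {binv : M}
    (hw : witness p reps m a b = true) (hc : sevenCheck p reps m a pows binv = true)
    (hcb : cyclicBasis p pows binv = true) {K : Subalgebra F (Matrix (Fin 3) (Fin 3) F)}
    (hK : Geo.IsFieldSubalgebra 3 K) (hadj : Geo.IsAdjointClosedFor (hermForm 3 F p) K)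
    {H : Subgroup (GL (Fin 3) F)} (hH : Geo.IsMaximalIn (SUG p F) H) (hle : H ≤ Geo.subalgebraNormalizer K) :
    False := by
  classical
  haveI : Fact (Nat.Prime 7) := ⟨by norm_num⟩
  have h49 : ¬ 49 ∣ Nat.card (GU 3 F p) := by
    rw [Unitary.card_GU h.conj.card 3]
    rcases hp35 with rfl | rfl <;> simp [Finset.prod_range_succ, Nat.even_iff]
  haveI : Nontrivial K := ⟨⟨0, 1, fun e => zero_ne_one (congrArg (fun k : K => (k : Matrix (Fin 3) (Fin 3) F)) e)⟩⟩
  letI : CommRing K := { (inferInstance : Ring K) with mul_comm := fun a b => Subtype.ext (hK.comm a a.2 b b.2) }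
  letI : Field K := IsField.toField
    { exists_pair_ne := exists_pair_ne K
      mul_comm := mul_comm
      mul_inv_cancel := fun {a} ha => by
        obtain ⟨y, hy, e⟩ := hK.inv a a.2 (fun e => ha (Subtype.ext e))
        exact ⟨⟨y, hy⟩, Subtype.ext e⟩ }
  haveI : Finite K := Finite.of_injective _ Subtype.val_injective
  haveI : Fintype K := Fintype.ofFinite K
  have hcardK : Fintype.card K = (p ^ 2) ^ 3 := by
    rw [Module.card_eq_pow_finrank (K := F) (V := K), h.conj.card, hK.finrank_eq]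
  obtain ⟨g₀, hg₀⟩ := exists_prime_orderOf_dvd_card (G := Kˣ) 7 (by
    rw [Fintype.card_units, hcardK]; rcases hp35 with rfl | rfl <;> norm_num)
  set x₀ : K := (g₀ : K) with hx₀
  have hprim : IsPrimitiveRoot x₀ 7 := by
    rw [← hg₀, ← orderOf_units]; exact IsPrimitiveRoot.orderOf x₀
  set X : Matrix (Fin 3) (Fin 3) F := (x₀ : Matrix (Fin 3) (Fin 3) F) with hX
  have hXp : ∀ i : ℕ, X ^ i = ((x₀ ^ i : K) : Matrix (Fin 3) (Fin 3) F) := fun i => by simp [hX]
  have hX7 : X ^ 7 = 1 := by rw [hXp, hprim.pow_eq_one]; rfl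
  have hroots : ∀ k ∈ K, k ^ 7 = 1 → ∃ i < 7, k = X ^ i := by
    intro k hk hk1
    obtain ⟨i, hi, hik⟩ := hprim.eq_pow_of_pow_eq_one (ξ := (⟨k, hk⟩ : K)) (Subtype.ext (by simpa using hk1))
    exact ⟨i, hi, by rw [hXp, hik]⟩
  -- the adjoint
  let star' : Matrix (Fin 3) (Fin 3) F → Matrix (Fin 3) (Fin 3) F := fun A => (A.map σ)ᵀ
  obtain ⟨X', hX'K, hX'⟩ := hadj X x₀.2
  have hX's : X' = star' X := by
    ext i j
    have h1 := hX' (Pi.single i 1) (Pi.single j 1)
    simp [h.conj.hermForm_apply, Pi.single_apply, Matrix.mulVec_single_one, apply_ite, ite_mul] at h1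
    show X' i j = σ (X j i)
    rw [h1, h.conj.invol]
  have hstar_pow : ∀ i : ℕ, star' (X ^ i) = star' X ^ i := fun i => by
    show ((X ^ i).map σ)ᵀ = ((X.map σ)ᵀ) ^ i
    rw [← Matrix.transpose_pow, ← RingHom.mapMatrix_apply, ← RingHom.mapMatrix_apply, map_pow]
  have hstar_star : star' (star' X) = X := by
    ext i j; simp [star', h.conj.invol]
  obtain ⟨j, hj, hjX⟩ := hroots X' hX'K (by
    rw [hX's, ← hstar_pow, hX7]; simp [star'])
  have hjj : X ^ (j * j) = X := by
    have := hstar_pow j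
    rwa [← hjX, hX's, hstar_star, ← hX's, hjX, ← pow_mul, eq_comm] at this
  have hj16 : j = 1 ∨ j = 6 := by
    have h1 : x₀ ^ (j * j % 7) = x₀ ^ 1 := Subtype.ext (by
      rw [← hXp, ← pow_eq_pow_mod _ hX7, hjj, ← hXp, pow_one])
    have h2 := hprim.pow_inj (Nat.mod_lt _ (by norm_num)) (by norm_num) h1
    interval_cases j <;> simp at h2 ⊢
  have hj6 : j = 6 := by
    refine hj16.resolve_left ?_
    rintro rfl
    rw [pow_one, hX's] at hjX
    set P := X.charpoly with hP
    have hPσ : P.map σ = P := by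
      rw [hP, ← Matrix.charpoly_map, ← Matrix.charpoly_transpose (X.map σ)]
      exact congrArg Matrix.charpoly hjX
    have hfix : ∀ i, P.coeff i ^ p = P.coeff i := fun i => by
      rw [← h.conj.apply, ← Polynomial.coeff_map, hPσ]
    haveI := Fact.mk h.prime
    haveI : CharP F p := charP_of_card_eq_prime_pow (f := 2) h.conj.card
    haveI : CharP K p := charP_of_injective_algebraMap (algebraMap F K).injective p
    have hroot : Polynomial.aeval x₀ P = 0 := Subtype.ext (by
      rw [← Subalgebra.coe_val, ← Polynomial.aeval_algHom_apply]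
      exact Matrix.aeval_self_charpoly X)
    have hfrob : ∀ z : K, Polynomial.aeval z P = 0 → Polynomial.aeval (z ^ p) P = 0 := fun z hz => by
      have h1 : Polynomial.aeval (z ^ p) P = (Polynomial.aeval z P) ^ p := by
        rw [Polynomial.aeval_eq_sum_range, Polynomial.aeval_eq_sum_range, sum_pow_char]
        refine Finset.sum_congr rfl fun i _ => ?_
        rw [_root_.smul_pow, hfix, ← pow_mul, ← pow_mul, mul_comm]
      rw [h1, hz, zero_pow h.prime.ne_zero]
    have hd : P.natDegree = 3 := by rw [hP, Matrix.charpoly_natDegree_eq_dim, Fintype.card_fin]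
    let Z : Finset K := (Finset.range 4).image fun i => x₀ ^ (p ^ i % 7)
    have hz : ∀ i, Polynomial.aeval (x₀ ^ (p ^ i)) P = 0 := by
      intro i
      induction i with
      | zero => simpa using hroot
      | succ i ih => rw [pow_succ, pow_mul]; exact hfrob _ ih
    have hle' : Z.card ≤ 3 := by
      refine le_trans ?_ ((Polynomial.natDegree_map (algebraMap F K) (p := P)).trans hd).le
      refine Polynomial.card_le_degree_of_subset_roots fun z hz' => ?_
      obtain ⟨i, -, rfl⟩ := Finset.mem_image.mp (Finset.mem_val.mp hz')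
      rw [Polynomial.mem_roots ((Matrix.charpoly_monic X).map _).ne_zero, Polynomial.IsRoot.def,
        Polynomial.eval_map, ← Polynomial.aeval_def, ← pow_eq_pow_mod _ hprim.pow_eq_one]
      exact hz i
    rw [Finset.card_image_of_injOn, Finset.card_range] at hle'
    · omega
    intro i hi i' hi' e
    have e' := hprim.pow_inj (Nat.mod_lt _ (by norm_num)) (Nat.mod_lt _ (by norm_num)) e
    simp only [Finset.coe_range, Set.mem_Iio] at hi hi'
    rcases hp35 with rfl | rfl <;> interval_cases i <;> interval_cases i' <;> simp at e' ⊢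
  subst hj6
  have hiso : ∀ u v, hermForm 3 F p (X *ᵥ u) (X *ᵥ v) = hermForm 3 F p u v := fun u v => by
    rw [hX', hjX, Matrix.mulVec_mulVec, ← pow_succ, hX7, Matrix.one_mulVec]
  have hxu : IsUnit X := (isUnit_pow_iff (by norm_num : (7 : ℕ) ≠ 0)).mp (by rw [hX7]; exact isUnit_one)
  set x : GL (Fin 3) F := hxu.unit
  have hxv : (x : Matrix (Fin 3) (Fin 3) F) = X := rfl
  refine h.seven_not_maximal hw hc hcb h49 (x := x) (orderOf_eq_prime (Units.ext (by
      rw [Units.val_pow_eq_pow_val, hxv, hX7, Units.val_one])) fun e => ?_) (mem_GU_iff.mpr hiso) hH fun g hg => ?_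
  · have h1 : x₀ = 1 := Subtype.ext (by rw [← hX, ← hxv, e, Units.val_one]; rfl)
    exact hprim.ne_one (by norm_num) h1
  · have hmem : ((g * x * g⁻¹ : GL (Fin 3) F) : Matrix (Fin 3) (Fin 3) F) ∈ K := by
      rw [Units.val_mul, Units.val_mul, hxv]
      exact (hle hg X).mp x₀.2
    obtain ⟨i, -, hi⟩ := hroots _ hmem (by
      rw [← Units.val_pow_eq_pow_val, conj_pow, show x ^ 7 = 1 from Units.ext (by
        rw [Units.val_pow_eq_pow_val, hxv, hX7, Units.val_one]), mul_one, mul_inv_cancel, Units.val_one])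
    exact ⟨i, Units.ext (by rw [hi, Units.val_pow_eq_pow_val, hxv])⟩

end Setup

end Cfsg.Agent.Aschbacher.SU3
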