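import Cfsg.Agent.Aschbacher.SU3.Small

/-!
The normaliser of a group of order 27 in SU(3, 5) and the orthogonal subfield groups of SU(3, 3) and SU(3, 5).
-/

set_option autoImplicit false
set_option linter.unusedSectionVars false
set_option linter.style.haveILetI false

namespace Cfsg.Agent.Aschbacher.SU3

open scoped MatrixGroups Matrix commutatorElement
open Module

namespace Setup

variable {p : ℕ} {F : Type*} [Field F] [Fintype F] {σ : F →+* F} {r : F}

/-- The normaliser of a group of symplectic type of order 27. -/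
theorem heis_not_maximal (h : Setup 5 F σ r) {R : Subgroup (GL (Fin 3) F)}
    (hR : Geo.IsSymplecticTypeGroup 3 R) (habs : Geo.ActsAbsolutelyIrreducibly (Geo.matrixSet R))
    (hU : R ≤ GU 3 F 5) (hcard : Nat.card R = 27) (hcen : Nat.card (Subgroup.center R) = 3)
    {H : Subgroup (GL (Fin 3) F)} (hH : Geo.IsMaximalIn (SUG 5 F) H) (hle : H ≤ Geo.subgroupNormalizer R) : False := by
  classical
  have hh := h.conj.herm (n := 3)
  haveI : Fact (Nat.Prime 3) := ⟨Nat.prime_three⟩
  have hcube : ∀ g ∈ R, g ^ 3 = 1 := fun g hg => by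
    have h1 := Monoid.pow_exponent_eq_one (⟨g, hg⟩ : R)
    rw [hR.exponent_eq, show Nat.gcd 2 3 = 1 from rfl, mul_one] at h1
    exact congrArg Subtype.val h1
  haveI : Finite R := Nat.finite_of_card_ne_zero (by rw [hcard]; norm_num)
  obtain ⟨a, ha, b, hb, hab⟩ : ∃ a ∈ R, ∃ b ∈ R, b * a ≠ a * b := by
    by_contra hcon
    push Not at hcon
    have : Subgroup.center R = ⊤ := eq_top_iff.mpr fun g _ => Subgroup.mem_center_iff.mpr fun k =>
      Subtype.ext (hcon g g.2 k k.2)
    rw [this, Subgroup.card_top, hcard] at hcen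
    omega
  have hzc : ⁅(⟨b, hb⟩ : R), ⟨a, ha⟩⁆ ∈ Subgroup.center R := by
    have h9 : Nat.card (R ⧸ Subgroup.center R) = 3 ^ 2 := by
      have h1 := Subgroup.card_eq_card_quotient_mul_card_subgroup (Subgroup.center R)
      rw [hcard, hcen] at h1
      omega
    refine (QuotientGroup.eq_one_iff _).mp ?_
    rw [← QuotientGroup.mk'_apply, map_commutatorElement, commutatorElement_eq_one_iff_mul_comm]
    exact IsPGroup.commutative_of_card_eq_prime_sq h9 _ _
  obtain ⟨c, hc⟩ := (Geo.mem_scalars_iff _).mp (mem_scalars_of_commute habs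
    (g := ⁅b, a⁆) fun k hk => (congrArg Subtype.val (Subgroup.mem_center_iff.mp hzc ⟨k, hk⟩)).symm)
  have hrel : (b : Matrix (Fin 3) (Fin 3) F) * a = (c : F) • ((a : Matrix (Fin 3) (Fin 3) F) * b) := by
    have h2 : b * a = ⁅b, a⁆ * (a * b) := by rw [commutatorElement_def]; group
    have h3 := congrArg Units.val h2
    rw [Units.val_mul, Units.val_mul, Units.val_mul, hc, Matrix.smul_mul, one_mul] at h3
    exact h3
  have hc1 : (c : F) ≠ 1 := fun e => hab (Units.ext (by rw [e, one_smul] at hrel; simpa using hrel))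
  have hc3 : (c : F) ^ 3 = 1 := by
    have h1 := congrArg Units.val (hcube _ (by
      rw [commutatorElement_def]; exact mul_mem (mul_mem (mul_mem hb ha) (inv_mem hb)) (inv_mem ha) : ⁅b, a⁆ ∈ R))
    rw [Units.val_pow_eq_pow_val, hc, _root_.smul_pow, one_pow, Units.val_one] at h1
    simpa using congrFun (congrFun h1 0) 0
  have hom := omega_spec
  simp only [Bool.and_eq_true, Bool.not_eq_true', h.eqs_iff, h.val_mul, h.val_cj, h.val_one, decide_eq_true_eq,
    Bool.eq_false_iff, ne_eq] at hom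
  obtain ⟨⟨⟨hw1, hw3⟩, hwne⟩, -⟩ := hom
  set w := val 5 r omega with hwdef
  have hw0 : w ≠ 0 := fun e => by rw [e, zero_mul] at hw1; exact zero_ne_one hw1
  have hroots : ∀ d : F, d ^ 3 = 1 → d = 1 ∨ d = w ∨ d = w * w := fun d hd => by
    have e : (d - 1) * ((d - w) * (d - w * w)) = 0 := by
      have h0 : 1 + w + w * w = 0 := by
        have : (w - 1) * (1 + w + w * w) = 0 := by linear_combination hw3
        exact (mul_eq_zero.mp this).resolve_left (sub_ne_zero.mpr hwne)
      linear_combination hd - (d ^ 2) * h0 + d * w * h0 - hw3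
    rcases mul_eq_zero.mp e with e | e
    · exact Or.inl (sub_eq_zero.mp e)
    rcases mul_eq_zero.mp e with e | e
    · exact Or.inr (Or.inl (sub_eq_zero.mp e))
    · exact Or.inr (Or.inr (sub_eq_zero.mp e))
  obtain ⟨x, hx, y, hy, hxy⟩ : ∃ x ∈ R, ∃ y ∈ R,
      (x : Matrix (Fin 3) (Fin 3) F) * y = w • ((y : Matrix (Fin 3) (Fin 3) F) * x) := by
    rcases hroots _ hc3 with e | e | e
    · exact absurd e hc1
    · exact ⟨b, hb, a, ha, by rw [hrel, e]⟩
    · refine ⟨a, ha, b, hb, ?_⟩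
      rw [hrel, e, smul_smul, hw3, one_smul]
  have hxU := mem_GU_iff.mp (hU hx)
  have hyU := mem_GU_iff.mp (hU hy)
  have hx3 : (x : Matrix (Fin 3) (Fin 3) F) ^ 3 = 1 := by
    rw [← Units.val_pow_eq_pow_val, hcube x hx, Units.val_one]
  have hy3 : (y : Matrix (Fin 3) (Fin 3) F) ^ 3 = 1 := by
    rw [← Units.val_pow_eq_pow_val, hcube y hy, Units.val_one]
  -- an eigenvalue
  obtain ⟨d, u, hu0, hdu, hd3⟩ : ∃ (d : F) (u : Fin 3 → F), u ≠ 0 ∧ (x : Matrix (Fin 3) (Fin 3) F) *ᵥ u = d • u ∧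
      d ^ 3 = 1 := by
    have h0 : 1 + w + w * w = 0 := by
      have : (w - 1) * (1 + w + w * w) = 0 := by linear_combination hw3
      exact (mul_eq_zero.mp this).resolve_left (sub_ne_zero.mpr hwne)
    set A := (x : Matrix (Fin 3) (Fin 3) F)
    have hprod : (A - 1) * ((A - w • 1) * (A - (w * w) • 1)) = 0 := by
      have e : (A - w • 1) * (A - (w * w) • 1) = A * A + A + 1 := by
        simp only [sub_mul, mul_sub, Matrix.smul_mul, Matrix.mul_smul, one_mul, mul_one, smul_smul]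
        rw [show w * w * w = 1 by linear_combination hw3]
        have hneg : w = -1 - w * w := by linear_combination h0
        have : A + w • A + (w * w) • A = 0 := by
          rw [show A + w • A + (w * w) • A = (1 + w + w * w) • A by module, h0, zero_smul]
        linear_combination (norm := module) -this
      rw [e]
      linear_combination (norm := noncomm_ring) hx3
    have hdet := congrArg Matrix.det hprod
    rw [Matrix.det_mul, Matrix.det_mul, Matrix.det_zero, mul_eq_zero, mul_eq_zero] at hdet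
    have key : ∀ d : F, (A - d • 1).det = 0 → d ^ 3 = 1 → ∃ (d : F) (u : Fin 3 → F), u ≠ 0 ∧ A *ᵥ u = d • u ∧ d ^ 3 = 1 := by
      intro d hd hd3
      obtain ⟨u, hu, hu'⟩ := Matrix.exists_mulVec_eq_zero_iff.mpr hd
      refine ⟨d, u, hu, sub_eq_zero.mp ?_, hd3⟩
      rwa [Matrix.sub_mulVec, Matrix.smul_mulVec, Matrix.one_mulVec] at hu'
    rcases hdet with e | e | e
    · exact key 1 (by rwa [one_smul]) (one_pow 3)
    · exact key w e (by linear_combination hw3)
    · exact key (w * w) e (by linear_combination (w * (w * w) + 1) * hw3)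
  -- y shifts eigenvalues
  have hshift : ∀ (v : Fin 3 → F) (e : F), (x : Matrix (Fin 3) (Fin 3) F) *ᵥ v = e • v →
      (x : Matrix (Fin 3) (Fin 3) F) *ᵥ ((y : Matrix (Fin 3) (Fin 3) F) *ᵥ v) =
        (w * e) • ((y : Matrix (Fin 3) (Fin 3) F) *ᵥ v) := fun v e he => by
    rw [Matrix.mulVec_mulVec, hxy, Matrix.smul_mulVec, ← Matrix.mulVec_mulVec, he, Matrix.mulVec_smul, smul_smul]
  obtain ⟨u₀, hu₀, hxu₀⟩ : ∃ u₀ : Fin 3 → F, u₀ ≠ 0 ∧ (x : Matrix (Fin 3) (Fin 3) F) *ᵥ u₀ = u₀ := by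
    rcases hroots d hd3 with e | e | e
    · exact ⟨u, hu0, by rw [hdu, e, one_smul]⟩
    · refine ⟨_, fun z => hu0 (mulVec_gl_inj y ((mulVec_gl_inj y (z.trans (Matrix.mulVec_zero _).symm)).trans
        (Matrix.mulVec_zero _).symm)), ?_⟩
      rw [hshift _ _ (hshift u d hdu), e, hw3, one_smul]
    · refine ⟨_, fun z => hu0 (mulVec_gl_inj y (z.trans (Matrix.mulVec_zero _).symm)), ?_⟩
      rw [hshift u d hdu, e, hw3, one_smul]
  let us : Fin 3 → Fin 3 → F := ![u₀, (y : Matrix (Fin 3) (Fin 3) F) *ᵥ u₀,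
    (y : Matrix (Fin 3) (Fin 3) F) *ᵥ ((y : Matrix (Fin 3) (Fin 3) F) *ᵥ u₀)]
  have hx1 := hshift u₀ 1 (by rw [one_smul]; exact hxu₀)
  rw [mul_one] at hx1
  have hxe : ∀ i, (x : Matrix (Fin 3) (Fin 3) F) *ᵥ us i = (![1, w, w * w] : Fin 3 → F) i • us i := by
    intro i
    fin_cases i
    · simpa [us] using hxu₀
    · simpa [us] using hx1
    · simpa [us] using hshift _ _ hx1
  have hσw : σ w = w * w := by
    refine mul_left_cancel₀ hw0 ?_
    rw [hw1, hw3]
  have horth : ∀ i j, i ≠ j → hermForm 3 F 5 (us i) (us j) = 0 := by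
    intro i j hij
    have h1 := hxU (us i) (us j)
    rw [hxe, hxe, hh.smul_left, hh.smul_right] at h1
    have hne : (![1, w, w * w] : Fin 3 → F) i * σ ((![1, w, w * w] : Fin 3 → F) j) ≠ 1 := by
      have hww : w * w ≠ 1 := fun e => hwne (by
        calc w = w * (w * w) := by rw [e, mul_one]
          _ = 1 := hw3)
      fin_cases i <;> fin_cases j <;> simp [hσw] at hij ⊢
      all_goals first
        | exact hww
        | exact hwne
        | (intro e; apply hww; linear_combination e - w * hw3)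
        | (intro e; apply hwne; linear_combination e - w * hw3)
        | (intro e; apply hww; linear_combination e - w * w * hw3)
        | (intro e; apply hwne; linear_combination e - (w * w * w + 1) * hw3)
        | (intro e; apply hww; linear_combination e - (w * w * w + 1) * w * hw3)
    by_contra h0
    exact hne (mul_right_cancel₀ h0 (by rw [one_mul, mul_assoc]; exact h1))
  have hnorm : ∀ i, hermForm 3 F 5 (us i) (us i) = hermForm 3 F 5 u₀ u₀ := by
    intro i
    fin_cases i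
    · rfl
    · exact hyU _ _
    · exact (hyU _ _).trans (hyU _ _)
  have hne0 : hermForm 3 F 5 u₀ u₀ ≠ 0 := by
    intro h0
    have hli : LinearIndependent F us := by
      refine Module.End.eigenvectors_linearIndependent' (Matrix.toLin' (x : Matrix (Fin 3) (Fin 3) F))
        ![1, w, w * w] ?_ us fun i => ⟨Module.End.mem_eigenspace_iff.mpr ((Matrix.toLin'_apply _ _).trans (hxe i)), ?_⟩
      · intro i j hij
        fin_cases i <;> fin_cases j <;> simp at hij ⊢
        all_goals first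
          | exact hwne hij
          | exact hwne hij.symm
          | exact hwne (mul_left_cancel₀ hw0 (hij.trans (mul_one w).symm))
          | exact hwne (mul_left_cancel₀ hw0 (hij.symm.trans (mul_one w).symm))
          | (exfalso; apply hwne; calc w = w * (w * w) := by rw [hij, mul_one]
                                       _ = 1 := hw3)
          | (exfalso; apply hwne; calc w = w * (w * w) := by rw [← hij, mul_one]
                                       _ = 1 := hw3)
      · fin_cases i <;> simp only [us]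
        · exact hu₀
        · exact fun z => hu₀ (mulVec_gl_inj y (z.trans (Matrix.mulVec_zero _).symm))
        · exact fun z => hu₀ (mulVec_gl_inj y ((mulVec_gl_inj y (z.trans (Matrix.mulVec_zero _).symm)).trans
            (Matrix.mulVec_zero _).symm))
    obtain ⟨z, hz⟩ := (hh.nondegenerate u₀ hu₀).2
    refine hz ?_
    have htop := hli.span_eq_top_of_card_eq_finrank (by simp)
    have hmem : z ∈ Submodule.span F (Set.range us) := by rw [htop]; trivial
    obtain ⟨co, rfl⟩ := (Submodule.mem_span_range_iff_exists_fun F).mp hmem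
    rw [Fin.sum_univ_three, hh.add_right, hh.add_right, hh.smul_right, hh.smul_right, hh.smul_right]
    have e1 := horth 0 1 (by decide)
    have e2 := horth 0 2 (by decide)
    simp only [us] at e1 e2 ⊢
    simp at e1 e2 ⊢
    simp [h0, e1, e2]
  obtain ⟨s, hs⟩ := h.exists_unit_norm (a := (hermForm 3 F 5 u₀ u₀)⁻¹) (by rw [map_inv₀, ← hh.herm u₀ u₀])
    (inv_ne_zero hne0)
  obtain ⟨B, hB, hBc⟩ := h.exists_frameGL (fun i => s • us i) fun i j => by
    rw [hh.smul_left, hh.smul_right, ← mul_assoc, hs]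
    split_ifs with e
    · rw [e, hnorm, inv_mul_cancel₀ hne0]
    · rw [horth i j e, mul_zero]
  set R' := R.map (MulAut.conj B⁻¹).toMonoidHom with hR'
  have hval : ∀ g : GL (Fin 3) F, ((MulAut.conj B⁻¹).toMonoidHom g : Matrix (Fin 3) (Fin 3) F) =
      ((B⁻¹ : GL (Fin 3) F) : Matrix (Fin 3) (Fin 3) F) * g * (B : Matrix (Fin 3) (Fin 3) F) := fun g => by simp
  have hxv : ((MulAut.conj B⁻¹).toMonoidHom x : Matrix (Fin 3) (Fin 3) F) = matVal 5 r heisX := by
    refine h.eq_matVal ![(1, 0, 0), (0, omega, 0), (0, 0, mul 5 omega omega)] (fun j => ?_) |>.trans ?_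
    · rw [hval, ← Matrix.mulVec_mulVec, ← Matrix.mulVec_mulVec, hBc, Matrix.mulVec_smul, hxe, smul_comm,
        Matrix.mulVec_smul, ← hBc, inv_mulVec_mulVec]
      fin_cases j <;> funext l <;> fin_cases l <;>
        simp [vecVal, h.val_one, h.val_mul, val_zero, Pi.single_apply, ← hwdef]
    · exact h.meq_iff.mp (by decide +kernel)
  have hyv : ((MulAut.conj B⁻¹).toMonoidHom y : Matrix (Fin 3) (Fin 3) F) = matVal 5 r heisY := by
    refine h.eq_matVal ![(0, 1, 0), (0, 0, 1), (1, 0, 0)] (fun j => ?_) |>.trans ?_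
    · have hstep : (y : Matrix (Fin 3) (Fin 3) F) *ᵥ us j = us (j + 1) := by
        fin_cases j
        · rfl
        · rfl
        · show (y : Matrix (Fin 3) (Fin 3) F) *ᵥ ((y : Matrix (Fin 3) (Fin 3) F) *ᵥ ((y : Matrix (Fin 3) (Fin 3) F) *ᵥ u₀)) = u₀
          rw [Matrix.mulVec_mulVec, Matrix.mulVec_mulVec, ← pow_three', hy3, Matrix.one_mulVec]
      rw [hval, ← Matrix.mulVec_mulVec, ← Matrix.mulVec_mulVec, hBc, Matrix.mulVec_smul, hstep, ← hBc (j + 1),
        inv_mulVec_mulVec]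
      fin_cases j <;> funext l <;> fin_cases l <;> simp [vecVal, h.val_one, val_zero, Pi.single_apply]
    · exact h.meq_iff.mp (by decide +kernel)
  obtain ⟨z, hzR, hzv⟩ : ∃ z ∈ R', (z : Matrix (Fin 3) (Fin 3) F) = w • (1 : Matrix (Fin 3) (Fin 3) F) := by
    refine ⟨(MulAut.conj B⁻¹).toMonoidHom ⁅x, y⁆, ⟨_, ?_, rfl⟩, ?_⟩
    · rw [commutatorElement_def]; exact mul_mem (mul_mem (mul_mem hx hy) (inv_mem hx)) (inv_mem hy)
    have e : (⁅x, y⁆ : GL (Fin 3) F).val = w • 1 := by
      rw [commutatorElement_def]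
      simp only [Units.val_mul]
      rw [hxy, Matrix.smul_mul, Matrix.smul_mul]
      simp [mul_assoc]
    rw [hval, e, Matrix.mul_smul, Matrix.smul_mul, mul_one]
    simp
  have hsc : ∀ k ∈ [1, omega, mul 5 omega omega], ∃ g ∈ R', (g : Matrix (Fin 3) (Fin 3) F) = val 5 r k • 1 := by
    intro k hk
    simp only [List.mem_cons, List.not_mem_nil, or_false] at hk
    rcases hk with rfl | rfl | rfl
    · exact ⟨1, one_mem _, by simp [h.val_one]⟩
    · exact ⟨z, hzR, hzv⟩
    · exact ⟨z * z, mul_mem hzR hzR, by rw [Units.val_mul, hzv, h.val_mul, Matrix.smul_mul, one_mul, smul_smul]⟩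
  have hxR : (MulAut.conj B⁻¹).toMonoidHom x ∈ R' := ⟨x, hx, rfl⟩
  have hyR : (MulAut.conj B⁻¹).toMonoidHom y ∈ R' := ⟨y, hy, rfl⟩
  have helem : ∀ L ∈ heisGroup, ∃ g ∈ R', (g : Matrix (Fin 3) (Fin 3) F) = matVal 5 r L := by
    intro L hL
    simp only [heisGroup, List.mem_flatMap, List.mem_map] at hL
    obtain ⟨k, hk, X, hX, Y, hY, rfl⟩ := hL
    obtain ⟨g₁, hg₁, hv₁⟩ := hsc k hk
    obtain ⟨g₂, hg₂, hv₂⟩ : ∃ g ∈ R', (g : Matrix (Fin 3) (Fin 3) F) = matVal 5 r X := by
      simp only [List.mem_cons, List.not_mem_nil, or_false] at hX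
      rcases hX with rfl | rfl | rfl
      · exact ⟨1, one_mem _, by rw [h.matVal_one, Units.val_one]⟩
      · exact ⟨_, hxR, hxv⟩
      · exact ⟨_, mul_mem hxR hxR, by rw [h.matVal_mmul, Units.val_mul, hxv]⟩
    obtain ⟨g₃, hg₃, hv₃⟩ : ∃ g ∈ R', (g : Matrix (Fin 3) (Fin 3) F) = matVal 5 r Y := by
      simp only [List.mem_cons, List.not_mem_nil, or_false] at hY
      rcases hY with rfl | rfl | rfl
      · exact ⟨1, one_mem _, by rw [h.matVal_one, Units.val_one]⟩
      · exact ⟨_, hyR, hyv⟩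
      · exact ⟨_, mul_mem hyR hyR, by rw [h.matVal_mmul, Units.val_mul, hyv]⟩
    refine ⟨g₁ * (g₂ * g₃), mul_mem hg₁ (mul_mem hg₂ hg₃), ?_⟩
    rw [Units.val_mul, Units.val_mul, hv₁, hv₂, hv₃, h.matVal_msmul, h.matVal_mmul, Matrix.smul_mul, one_mul]
  choose e he hev using fun i : Fin 27 => helem (heisGroup.getD i one) (by
    rw [List.getD_eq_getElem _ _ (by rw [heisGroup_length]; exact i.2)]
    exact List.getElem_mem _)
  have hcover : ∀ g ∈ R', ∃ L ∈ heisGroup, (g : Matrix (Fin 3) (Fin 3) F) = matVal 5 r L := by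
    have hcR' : Nat.card R' = 27 := by
      rw [hR', Subgroup.card_map_of_injective (MulAut.conj B⁻¹).injective, hcard]
    haveI : Finite R' := Nat.finite_of_card_ne_zero (by rw [hcR']; norm_num)
    let Φ : Fin 27 → R' := fun i => ⟨e i, he i⟩
    have hΦ : Function.Injective Φ := fun i j hij => by
      have h1 := (hev i).symm.trans ((congrArg (fun g : R' => ((g : GL (Fin 3) F) : Matrix (Fin 3) (Fin 3) F)) hij).trans
        (hev j))
      have h2 := List.all_eq_true.mp (List.all_eq_true.mp heisGroup_distinct i (List.mem_range.mpr i.2)) j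
        (List.mem_range.mpr j.2)
      rw [h.meq_iff.mpr h1] at h2
      exact Fin.ext (by simpa using h2)
    have hsurj := (hΦ.bijective_of_nat_card_le (by rw [hcR', Nat.card_eq_fintype_card, Fintype.card_fin])).2
    intro g hg
    obtain ⟨i, hi⟩ := hsurj ⟨g, hg⟩
    refine ⟨heisGroup.getD i one, ?_, ?_⟩
    · rw [List.getD_eq_getElem _ _ (by rw [heisGroup_length]; exact i.2)]
      exact List.getElem_mem _
    · rw [← hev i]
      exact (congrArg (fun k : R' => ((k : GL (Fin 3) F) : Matrix (Fin 3) (Fin 3) F)) hi).symm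
  refine h.not_maximal_of_witness heis_witness (conj_maximal (inv_mem hB) hH) ?_
  rintro _ ⟨g, hg, rfl⟩
  set G := (MulAut.conj B⁻¹).toMonoidHom g with hG
  have hGI : G ∈ SUG 5 F := conj_mem (inv_mem hB) (hH.1.le hg)
  have hGR : ∀ k ∈ R', G * k * G⁻¹ ∈ R' := by
    rintro _ ⟨k, hk, rfl⟩
    exact ⟨g * k * g⁻¹, (Subgroup.mem_normalizer_iff.mp (hle hg) k).mp hk, by simp [hG, map_mul, map_inv]⟩
  obtain ⟨L, hL, hLv⟩ := hcover _ (hGR _ hxR)
  obtain ⟨L', hL', hL'v⟩ := hcover _ (hGR _ hyR)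
  have hch := heis_check
  unfold heisCheck at hch
  obtain ⟨cv, hcok, hcv⟩ := h.allUnit_spec hch (v := (G : Matrix (Fin 3) (Fin 3) F) *ᵥ Pi.single 0 1)
    (by rw [mem_GU_iff.mp hGI.1, h.conj.hermForm_apply]; simp [Fin.sum_univ_three])
  rw [forceV_eq] at hcok
  simp only [List.all_eq_true, Bool.or_eq_true, Bool.not_eq_true'] at hcok
  have hcomm : ∀ (k : GL (Fin 3) F) (v : Fin 3 → F), ((G * k * G⁻¹ : GL (Fin 3) F) : Matrix (Fin 3) (Fin 3) F) *ᵥ
      ((G : Matrix (Fin 3) (Fin 3) F) *ᵥ v) = (G : Matrix (Fin 3) (Fin 3) F) *ᵥ ((k : Matrix (Fin 3) (Fin 3) F) *ᵥ v) := by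
    intro k v
    rw [Matrix.mulVec_mulVec, Matrix.mulVec_mulVec, ← Units.val_mul, ← Units.val_mul, inv_mul_cancel_right]
  have hfix : veq 5 (mulV 5 L cv) cv = true := by
    refine h.veq_iff.mpr ?_
    rw [h.vecVal_mulV, ← hLv, ← hcv, hcomm, hxv]
    congr 1
    funext l
    rw [Matrix.mulVec_single_one]
    fin_cases l <;> simp [matVal, vecVal, heisX, h.val_one, val_zero]
  have hne : meq 5 L one = false := by
    rw [Bool.eq_false_iff]
    intro e'
    have h1 : G * (MulAut.conj B⁻¹).toMonoidHom x * G⁻¹ = 1 := Units.ext (by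
      rw [hLv, h.meq_iff.mp e', h.matVal_one, Units.val_one])
    rw [mul_inv_eq_one, mul_eq_left] at h1
    rw [h1, Units.val_one, ← h.matVal_one] at hxv
    have := h.meq_iff.mpr hxv.symm
    revert this
    decide +kernel
  rcases hcok L hL with (e' | e') | e'
  · rw [hne] at e'; exact absurd e' Bool.false_ne_true
  · rw [hfix] at e'; exact absurd e'.symm Bool.false_ne_true
  refine ⟨_, ?_, e' L' hL'⟩
  refine h.eq_matVal ![cv, mulV 5 L' cv, mulV 5 L' (mulV 5 L' cv)] fun j => ?_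
  have hY : ∀ i : Fin 3, matVal 5 r heisY *ᵥ Pi.single i 1 = (Pi.single (i + 1) 1 : Fin 3 → F) := fun i => by
    rw [Matrix.mulVec_single_one]
    fin_cases i <;> funext l <;> fin_cases l <;> simp [matVal, vecVal, heisY, h.val_one, val_zero, Pi.single_apply]
  have e1 : (G : Matrix (Fin 3) (Fin 3) F) *ᵥ Pi.single 1 1 = vecVal 5 r (mulV 5 L' cv) := by
    rw [h.vecVal_mulV, ← hcv, ← hL'v, hcomm, hyv, hY]; rfl
  have e2 : (G : Matrix (Fin 3) (Fin 3) F) *ᵥ Pi.single 2 1 = vecVal 5 r (mulV 5 L' (mulV 5 L' cv)) := by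
    rw [h.vecVal_mulV, ← e1, ← hL'v, hcomm, hyv, hY]; rfl
  fin_cases j
  · exact hcv
  · exact e1
  · exact e2

/-- The subgroup of a rational structure over the prime field. -/
theorem real_not_maximal (h : Setup p F σ r) {reps : List V} {m : ℕ} {a b : M} (hw : witness p reps m a b = true)
    (hc : realCheck p reps m a = true) {F₀ : Subfield F} {P : GL (Fin 3) F}
    (hF₀ : Fintype.card F = Nat.card F₀ ^ 2) (hP : Geo.IsFormRationalStructure (hermForm 3 F p) F₀ 1 P)
    {H : Subgroup (GL (Fin 3) F)} (hH : Geo.IsMaximalIn (SUG p F) H) (hle : H ≤ Geo.subfieldSubgroup F₀ P) : False := by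
  classical
  have hh := h.conj.herm (n := 3)
  have hF₀p : Nat.card F₀ = p := by
    rw [h.conj.card] at hF₀
    exact (Nat.pow_left_injective two_ne_zero hF₀).symm
  have hfix : ∀ x ∈ F₀, σ x = x := fun x hx => by
    rw [h.conj.apply, ← hF₀p]
    exact (mem_subfield_iff_pow F₀ x).mp hx
  have hnat : ∀ x ∈ F₀, ∃ k < p, (k : F) = x := by
    let ψ : Fin p → F₀ := fun k => ((k : ℕ) : F₀)
    have hinj : Function.Injective ψ := fun k l e => by
      have := h.cast_inj (a := k) (b := l) (by simpa [ψ] using congrArg Subtype.val e)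
      rw [Nat.mod_eq_of_lt k.2, Nat.mod_eq_of_lt l.2] at this
      exact Fin.ext this
    have hbij := hinj.bijective_of_nat_card_le (by rw [hF₀p, Nat.card_eq_fintype_card, Fintype.card_fin])
    intro x hx
    obtain ⟨k, hk⟩ := hbij.2 ⟨x, hx⟩
    exact ⟨k, k.2, by simpa [ψ] using congrArg Subtype.val hk⟩
  haveI : Fintype F₀ := Fintype.ofFinite F₀
  haveI : Invertible (2 : F₀) := invertibleOfNonzero fun e => h.two_ne
    ((map_ofNat F₀.subtype 2).symm.trans ((congrArg F₀.subtype e).trans (map_zero _)))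
  -- the form over the small field
  let pv : (Fin 3 → F₀) → (Fin 3 → F) := fun u => (P : Matrix (Fin 3) (Fin 3) F) *ᵥ fun i => (u i : F)
  let f₀ : (Fin 3 → F₀) → (Fin 3 → F₀) → F₀ := fun u v =>
    ⟨hermForm 3 F p (pv u) (pv v), by simpa using hP (fun i => (u i : F)) (fun i => (v i : F)) (fun i => (u i).2) (fun i => (v i).2)⟩
  have hpadd : ∀ u v, pv (u + v) = pv u + pv v := fun u v => by
    simp only [pv, ← Matrix.mulVec_add]; congr 1
  have hpsmul : ∀ (k : F₀) u, pv (k • u) = (k : F) • pv u := fun k u => by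
    simp only [pv, ← Matrix.mulVec_smul]; congr 1
  let B₀ : LinearMap.BilinForm F₀ (Fin 3 → F₀) := LinearMap.mk₂ F₀ f₀
    (fun u u' v => Subtype.ext (by simp [f₀, hpadd, hh.add_left]))
    (fun k u v => Subtype.ext (by simp [f₀, hpsmul, hh.smul_left]))
    (fun u v v' => Subtype.ext (by simp [f₀, hpadd, hh.add_right]))
    (fun k u v => Subtype.ext (by simp [f₀, hpsmul, hh.smul_right, hfix _ k.2]))
  have hB₀ : ∀ u v, ((B₀ u v : F₀) : F) = hermForm 3 F p (pv u) (pv v) := fun _ _ => rfl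
  have hsymm : LinearMap.IsSymm B₀ := LinearMap.isSymm_def.mpr fun u v => Subtype.ext (by
    rw [RingHom.id_apply, hB₀, hB₀, hh.herm (pv v) (pv u), ← hB₀, hfix _ (B₀ u v).2])
  obtain ⟨e₀, he₀⟩ := LinearMap.BilinForm.exists_orthogonal_basis hsymm
  let e : Basis (Fin 3) F₀ (Fin 3 → F₀) := e₀.reindex (finCongr (by simp))
  have heo : ∀ i j, i ≠ j → B₀ (e i) (e j) = 0 := fun i j hij => by
    simp only [e, Basis.reindex_apply]
    exact he₀ fun e' => hij ((finCongr _).symm.injective e')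
  have hpvinj : Function.Injective pv := fun u v e' => funext fun i =>
    Subtype.ext (congrFun (mulVec_gl_inj P e') i)
  have hnz : ∀ i, B₀ (e i) (e i) ≠ 0 := by
    intro i h0
    have hzero : ∀ v, B₀ (e i) v = 0 := fun v => by
      rw [← e.sum_repr v, map_sum]
      refine Finset.sum_eq_zero fun j _ => ?_
      rw [map_smul]
      rcases eq_or_ne i j with rfl | hij
      · rw [h0, smul_zero]
      · rw [heo i j hij, smul_zero]
    obtain ⟨z, hz⟩ := (hh.nondegenerate (pv (e i)) (fun e' => e.ne_zero i (hpvinj (e'.trans (by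
      simp [pv, ← Pi.zero_def]))))).2
    refine hz ?_
    have hzb : z = ∑ j, (((P⁻¹ : GL (Fin 3) F) : Matrix (Fin 3) (Fin 3) F) *ᵥ z) j • pv (Pi.single j 1) := by
      have e1 : ∀ j, (fun i => (((Pi.single j (1 : F₀) : Fin 3 → F₀) i : F₀) : F)) = Pi.single j 1 := fun j => by
        funext i; rcases eq_or_ne i j with rfl | hh' <;> simp [*]
      simp only [pv, e1, ← Matrix.mulVec_smul, ← Matrix.mulVec_sum]
      rw [← pi_eq_sum_univ' (((P⁻¹ : GL (Fin 3) F) : Matrix (Fin 3) (Fin 3) F) *ᵥ z), mulVec_inv_mulVec]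
    rw [hzb, Fin.sum_univ_three]
    simp [hh.add_right, hh.smul_right, ← hB₀, hzero]
  -- an orthogonal basis with equal values
  have hodd : Fintype.card F₀ % 2 = 1 := by
    rw [← Nat.card_eq_fintype_card, hF₀p]
    refine Nat.odd_iff.mp (h.prime.odd_of_ne_two fun e2 => h.two_ne ?_)
    rw [← h.char, e2, Nat.cast_ofNat]
  have hbin : ∀ l₁ l₂ k : F₀, l₁ ≠ 0 → l₂ ≠ 0 → ∃ s t, l₁ * (s * s) + l₂ * (t * t) = k := by
    intro l₁ l₂ k h1 h2
    obtain ⟨s, t, hst⟩ := FiniteField.exists_root_sum_quadratic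
      (f := Polynomial.C l₁ * Polynomial.X ^ 2) (g := Polynomial.C l₂ * Polynomial.X ^ 2 - Polynomial.C k)
      (Polynomial.degree_C_mul_X_pow 2 h1) (by
        rw [Polynomial.degree_sub_C (by rw [Polynomial.degree_C_mul_X_pow 2 h2]; exact Nat.cast_pos.mpr two_pos)]
        exact Polynomial.degree_C_mul_X_pow 2 h2) hodd
    exact ⟨s, t, by simp at hst; linear_combination hst⟩
  obtain ⟨u, κ, hκ, hu⟩ : ∃ (u : Fin 3 → Fin 3 → F₀) (κ : F₀), κ ≠ 0 ∧
      ∀ i j, B₀ (u i) (u j) = if i = j then κ else 0 := by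
    set l₀ := B₀ (e 0) (e 0) with hl₀; set l₁ := B₀ (e 1) (e 1) with hl₁; set l₂ := B₀ (e 2) (e 2) with hl₂
    have h0 := hnz 0; have h1 := hnz 1; have h2 := hnz 2
    obtain ⟨s, t, hst⟩ := hbin l₀ l₁ (l₀ * l₁ * l₂) h0 h1
    set κ := l₀ * l₁ * l₂ with hκ
    have hκ0 : κ ≠ 0 := mul_ne_zero (mul_ne_zero h0 h1) h2
    obtain ⟨c, d, hcd⟩ := hbin (l₀ * l₁ * κ) l₂ κ (mul_ne_zero (mul_ne_zero h0 h1) hκ0) h2
    have o01 := heo 0 1 (by decide); have o10 := heo 1 0 (by decide); have o02 := heo 0 2 (by decide)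
    have o20 := heo 2 0 (by decide); have o12 := heo 1 2 (by decide); have o21 := heo 2 1 (by decide)
    refine ⟨![s • e 0 + t • e 1, c • ((-l₁ * t) • e 0 + (l₀ * s) • e 1) + d • e 2,
      κ⁻¹ • ((-l₂ * d) • ((-l₁ * t) • e 0 + (l₀ * s) • e 1) + (l₀ * l₁ * κ * c) • e 2)], κ, hκ0, fun i j => ?_⟩
    have hκi : κ * κ⁻¹ = 1 := mul_inv_cancel₀ hκ0
    fin_cases i <;> fin_cases j <;>
      simp [o01, o10, o02, o20, o12, o21, ← hl₀, ← hl₁, ← hl₂, map_add, map_smul, smul_eq_mul]
    · linear_combination hst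
    all_goals first
      | ring1
      | linear_combination (l₀ * l₁ * c * c) * hst + hcd
      | linear_combination (κ⁻¹ * κ⁻¹ * l₂ * l₂ * d * d * l₀ * l₁) * hst + (κ⁻¹ * κ⁻¹ * l₂ * l₀ * l₁ * κ) * hcd +
          (κ * (κ * κ⁻¹ + 1)) * hκi - (κ * κ * κ⁻¹ * κ⁻¹) * hκ
      | linear_combination (κ⁻¹ * c * -l₂ * d * l₀ * l₁) * hst
  obtain ⟨s, hs⟩ := h.exists_unit_norm (a := ((κ : F))⁻¹) (by rw [map_inv₀, hfix _ κ.2])
    (inv_ne_zero fun e' => hκ (Subtype.ext e'))
  have hκF : (κ : F) ≠ 0 := fun e' => hκ (Subtype.ext e')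
  obtain ⟨B, hB, hBc⟩ := h.exists_frameGL (fun i => s • pv (u i)) fun i j => by
    rw [hh.smul_left, hh.smul_right, ← mul_assoc, hs, ← hB₀, hu]
    split_ifs
    · exact inv_mul_cancel₀ hκF
    · simp
  refine h.not_maximal_of_witness hw (conj_maximal (inv_mem hB) hH) ?_
  rintro _ ⟨g, hg, rfl⟩
  set G := (MulAut.conj B⁻¹).toMonoidHom g with hG
  have hGI : G ∈ SUG p F := conj_mem (inv_mem hB) (hH.1.le hg)
  obtain ⟨g', hg', hgg⟩ := hle hg
  obtain ⟨_, ⟨A, rfl⟩, z, hz, rfl⟩ := Subgroup.mem_sup_of_normal_right.mp hg'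
  obtain ⟨μ, hμ⟩ := (Geo.mem_scalars_iff z).mp hz
  -- the matrix over the small field
  let U₀ : Matrix (Fin 3) (Fin 3) F₀ := Matrix.of fun i j => u j i
  have hU₀det : U₀.det ≠ 0 := by
    intro h0
    obtain ⟨v, hv0, hv⟩ := Matrix.exists_mulVec_eq_zero_iff.mpr h0
    refine hv0 (funext fun k => ?_)
    have hsum : U₀ *ᵥ v = v 0 • u 0 + v 1 • u 1 + v 2 • u 2 := by
      funext i; simp [U₀, Matrix.mulVec, dotProduct, Fin.sum_univ_three, mul_comm]
    have h1 := congrArg (fun x => B₀ (u k) x) (hsum.symm.trans hv)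
    simp only [map_add, map_smul, map_zero, hu, smul_eq_mul] at h1
    fin_cases k <;> simpa [hκ] using h1
  let C : Matrix (Fin 3) (Fin 3) F₀ := U₀⁻¹ * (A : Matrix (Fin 3) (Fin 3) F₀) * U₀
  have hUC : U₀ * C = (A : Matrix (Fin 3) (Fin 3) F₀) * U₀ := by
    simp only [C, ← mul_assoc]
    rw [Matrix.mul_nonsing_inv U₀ (IsUnit.mk0 _ hU₀det), one_mul]
  set Pm := (P : Matrix (Fin 3) (Fin 3) F)
  set mp := (fun M : Matrix (Fin 3) (Fin 3) F₀ => M.map F₀.subtype) with hmp
  have hBU : (B : Matrix (Fin 3) (Fin 3) F) = s • (Pm * mp U₀) := by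
    ext i j
    have := congrFun (hBc j) i
    rw [Matrix.mulVec_single_one] at this
    simpa [hmp, U₀, pv, Pm, Matrix.mul_apply, Matrix.mulVec, dotProduct] using this
  have hgv : (g : Matrix (Fin 3) (Fin 3) F) * Pm = (μ : F) • (Pm * mp A) := by
    rw [← hgg]
    simp only [MulEquiv.coe_toMonoidHom, MulAut.conj_apply, Units.val_mul, mul_assoc, Pm]
    rw [Units.inv_mul, mul_one, hμ, Matrix.mul_smul, Matrix.mul_smul, mul_one]
    rfl
  have hGv : (G : Matrix (Fin 3) (Fin 3) F) = (μ : F) • mp C := by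
    have h1 : (g : Matrix (Fin 3) (Fin 3) F) * (B : Matrix (Fin 3) (Fin 3) F) =
        (B : Matrix (Fin 3) (Fin 3) F) * ((μ : F) • mp C) := by
      rw [hBU, Matrix.mul_smul, ← mul_assoc, hgv, Matrix.smul_mul, Matrix.smul_mul, Matrix.mul_smul, smul_comm,
        mul_assoc, mul_assoc]
      simp only [hmp, ← Matrix.map_mul, hUC]
      rw [smul_comm]
    show (((MulAut.conj B⁻¹).toMonoidHom g : GL (Fin 3) F) : Matrix (Fin 3) (Fin 3) F) = _
    simp only [MulEquiv.coe_toMonoidHom, MulAut.conj_apply, inv_inv, Units.val_mul]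
    rw [mul_assoc, h1, ← mul_assoc, Units.inv_mul, one_mul]
  -- the columns
  set l : F := (μ : F) * σ μ
  have horth : ∀ i j, l * (((Cᵀ * C) i j : F₀) : F) = if i = j then 1 else 0 := fun i j => by
    have h1 := mem_GU_iff.mp hGI.1 (Pi.single i 1) (Pi.single j 1)
    rw [hGv, Matrix.smul_mulVec, Matrix.smul_mulVec, hh.smul_left, hh.smul_right, ← mul_assoc] at h1
    rw [Matrix.mulVec_single_one, Matrix.mulVec_single_one, h.conj.hermForm_apply, h.conj.hermForm_apply] at h1
    simp only [hmp, Matrix.map_apply, Subfield.coe_subtype, Matrix.col_apply] at h1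
    rw [show (∑ k, (C k i : F) * σ (C k j : F)) = (((Cᵀ * C) i j : F₀) : F) by
      simp [Matrix.mul_apply, hfix _ (SetLike.coe_mem _)]] at h1
    rw [h1]
    simp [Pi.single_apply, eq_comm]
  obtain ⟨lam, hlam⟩ : ∃ lam : F₀, (lam : F) = l := by
    have h1 := horth 0 0
    rw [if_pos rfl] at h1
    refine ⟨((Cᵀ * C) 0 0)⁻¹, ?_⟩
    push_cast
    exact inv_eq_of_mul_eq_one_left h1
  have hCC : lam • (Cᵀ * C) = 1 := by
    ext i j
    have h1 := horth i j
    rw [← hlam] at h1
    rw [Matrix.smul_apply, smul_eq_mul]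
    push_cast
    rw [h1, Matrix.one_apply]
    split_ifs <;> simp
  set d := C.det
  have hdd : lam ^ 3 * (d * d) = 1 := by
    have h1 := congrArg Matrix.det hCC
    rwa [Matrix.det_smul, Matrix.det_mul, Matrix.det_transpose, Matrix.det_one, Fintype.card_fin] at h1
  set ν := lam * d
  have hν : ν * ν * lam = 1 := by rw [← hdd]; ring
  have hν0 : ν ≠ 0 := fun e' => by rw [e', zero_mul, zero_mul] at hν; exact zero_ne_one hν
  have hνF : (ν : F) ≠ 0 := fun e' => hν0 (Subtype.ext e')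
  obtain ⟨k, hk, hkv⟩ := h.exists_mu (a := (μ : F) * ν) (by
    have h1 := congrArg Subtype.val hν
    push_cast at h1
    rw [hlam] at h1
    rw [map_mul, hfix _ ν.2]
    linear_combination h1)
  choose N hN hNv using fun i j => hnat ((ν⁻¹ * C i j : F₀) : F) (SetLike.coe_mem _)
  let t : Fin 3 → V := fun j => (N 0 j, N 1 j, N 2 j)
  have hval : ∀ i j, val p r (N i j) = ((ν⁻¹ * C i j : F₀) : F) := fun i j => by
    simp [val, Nat.div_eq_of_lt (hN i j), hNv]
  have htv : ∀ j, vecVal p r (t j) = fun i => ((ν⁻¹ * C i j : F₀) : F) := fun j => by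
    funext i; fin_cases i <;> simp [t, vecVal, hval]
  have hherm : ∀ i j, hermForm 3 F p (vecVal p r (t i)) (vecVal p r (t j)) = if i = j then 1 else 0 := fun i j => by
    rw [h.conj.hermForm_apply]
    simp only [htv, hfix _ (SetLike.coe_mem _)]
    have h1 := horth i j
    have h2 := congrArg Subtype.val hν
    push_cast at h2
    rw [hlam] at h2
    rw [← h1]
    simp only [Matrix.mul_apply, Matrix.transpose_apply]
    push_cast
    rw [Finset.mul_sum]
    refine Finset.sum_congr rfl fun k _ => ?_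
    field_simp
    linear_combination -((C k i : F) * (C k j : F)) * h2
  have htU : ∀ j, t j ∈ realUnit p := fun j => by
    simp only [realUnit, List.mem_filter, List.mem_flatMap, List.mem_map, List.mem_range]
    exact ⟨⟨_, hN 0 j, _, hN 1 j, _, hN 2 j, rfl⟩, h.eqs_iff.mpr (by
      rw [h.val_herm, hherm, if_pos rfl, h.val_one])⟩
  refine ⟨msmul p k (t 0, t 1, t 2), ?_, ?_⟩
  · rw [hGv, h.matVal_msmul]
    ext i j
    have : matVal p r (t 0, t 1, t 2) i j = vecVal p r (t j) i := by fin_cases j <;> rfl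
    rw [Matrix.smul_apply, Matrix.smul_apply, this, htv, hkv]
    simp [hmp]
    field_simp
  · simp only [realCheck, List.all_eq_true, forceV_eq, Bool.or_eq_true, Bool.not_eq_true'] at hc
    have he : ∀ i j, i ≠ j → eqs p (herm p (t i) (t j)) 0 = true := fun i j hij =>
      h.eqs_iff.mpr (by rw [h.val_herm, hherm, if_neg hij, val_zero])
    have h1 := (hc _ (htU 0) _ (htU 1)).resolve_left (by rw [he 0 1 (by decide)]; simp)
    exact ((h1 _ (htU 2)).resolve_left (by rw [he 0 2 (by decide), he 1 2 (by decide)]; simp)) k hk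

end Setup

end Cfsg.Agent.Aschbacher.SU3
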